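import Cfsg.Agent.E8A.C63.G2B

/-!
# `A₆` in characteristic 3: the data of the endings (helper52)

The vectors, the bases and the certificates `ct_*` (generated by `notes/E8A/c63/g2gen.py`).
-/

set_option autoImplicit false
set_option maxRecDepth 100000
set_option maxHeartbeats 400000

namespace Cfsg.Agent.E8A.C63.G2

open Cfsg.Agent.H288.E8L (Q8)
open Cfsg.Agent.E8A.C63.Sv

/-- the representative of the class `A₂` -/
def e3 : SV :=
  [(121, 1), (120, 1)]

/-- its partner -/
def f3 : SV :=
  [(119, -1), (118, -1)]

/-- the representative of the class `2A₂` -/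
def e8 : SV :=
  [(162, 1), (135, 1), (126, 1), (123, 1)]

/-- its partner -/
def f8 : SV :=
  [(116, -1), (113, -1), (104, -1), (77, -1)]

/-- the representative of the class `2A₂A₁` -/
def e9 : SV :=
  [(162, 1), (135, 1), (126, 1), (123, 1), (120, 1)]

/-- the first vector of degree `-1` -/
def z1 : SV :=
  [(186, 1), (179, -1), (177, -1), (159, -1), (158, 1)]

/-- the second vector of degree `-1` -/
def z2 : SV :=
  [(79, 1), (59, 1), (58, 1), (52, -1), (50, 1)]

/-- the centre of `E₆` -/
def zc : SV :=
  [(247, 1), (246, -1)]

/-- the invariant vector of degree zero -/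
def yv : SV :=
  [(244, 1), (245, -1), (242, -1), (240, 1), (186, -1), (179, 1), (177, 1), (159, 1), (158, -1)]

/-- the root vectors of `G₂` -/
def GR : List SV :=
  [[(35, 1)], [(45, 1)], [(55, 1), (83, -1), (64, -1)], [(91, 1), (95, -1), (70, 1)], [(107, 1), (102, 1), (75, 1)], [(98, 1)], [(164, 1), (137, 1),
  (132, 1)], [(141, 1)], [(144, 1), (169, -1), (148, -1)], [(175, 1), (184, -1), (156, 1)], [(194, 1)], [(204, 1)]]

/-- the torus of `G₂` -/
def GT : List SV :=
  [[(245, 1), (244, -1), (242, -1), (240, 1)], [(241, 1)]]

/-- the basis of `G₂` -/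
def GB : List SV := GR ++ GT

/-- the second `G₂` -/
def GC : List SV :=
  [[(0, 1)], [(1, 1)], [(21, 1), (17, -1), (11, 1)], [(52, 1), (79, -1), (59, -1)], [(53, 1), (80, -1), (60, -1)], [(119, 1)], [(120, 1)], [(179, 1),
  (186, -1), (159, 1)], [(180, 1), (187, -1), (160, 1)], [(228, 1), (222, -1), (218, 1)], [(238, 1)], [(239, 1)], [(244, 1), (245, -1), (242, -1),
  (240, 1)], [(247, 1)]]

/-- the vectors of negative degree -/
def TB : List SV :=
  [[(1, 1)], [(21, 1), (17, -1), (11, 1)], [(79, 1), (59, 1), (58, 1), (52, -1), (50, 1)]]

/-- the basis of `E₆` -/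
def E6 : List SV :=
  [[(3, 1)], [(4, 1)], [(5, 1)], [(6, 1)], [(7, 1)], [(8, 1)], [(9, 1)], [(10, 1)], [(14, 1)], [(15, 1)], [(16, 1)], [(17, 1)], [(21, 1)], [(22, 1)],
  [(26, 1)], [(36, 1)], [(55, 1)], [(65, 1)], [(69, 1)], [(70, 1)], [(74, 1)], [(75, 1)], [(76, 1)], [(77, 1)], [(87, 1)], [(91, 1)], [(92, 1)],
  [(96, 1)], [(97, 1)], [(98, 1)], [(102, 1)], [(103, 1)], [(104, 1)], [(108, 1)], [(109, 1)], [(113, 1)], [(126, 1)], [(130, 1)], [(131, 1)], [(135,
  1)], [(136, 1)], [(137, 1)], [(141, 1)], [(142, 1)], [(143, 1)], [(147, 1)], [(148, 1)], [(152, 1)], [(162, 1)], [(163, 1)], [(164, 1)], [(165,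
  1)], [(169, 1)], [(170, 1)], [(174, 1)], [(184, 1)], [(203, 1)], [(213, 1)], [(217, 1)], [(218, 1)], [(222, 1)], [(223, 1)], [(224, 1)], [(225,
  1)], [(229, 1)], [(230, 1)], [(231, 1)], [(232, 1)], [(233, 1)], [(234, 1)], [(235, 1)], [(236, 1)], [(240, 1)], [(241, 1)], [(242, 1)], [(243,
  1)], [(244, 1)], [(246, 1), (247, -1)]]

/-- its generators -/
def E6g : List SV :=
  [[(126, 1)], [(130, 1)], [(135, 1)], [(141, 1)], [(162, 1)], [(203, 1)], [(113, 1)], [(109, 1)], [(104, 1)], [(98, 1)], [(77, 1)], [(36, 1)]]

/-- a short root vector -/
def sG : SV :=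
  [(55, 1), (83, -1), (64, -1)]

/-- the brackets -/
def PG : List (SV × List (SV × SV)) :=
  [([(35, 1)], [([(35, 1)], [(241, 1)])]), ([(45, 1)], [([(35, 1)], [(141, 1)])]), ([(55, 1), (83, -1), (64, -1)], [([(35, -1)], [(144, 1), (169,
  -1), (148, -1)])]), ([(91, 1), (95, -1), (70, 1)], [([(35, 1)], [(175, 1), (184, -1), (156, 1)])]), ([(107, 1), (102, 1), (75, 1)], [([(45, 1)],
  [(175, 1), (184, -1), (156, 1)])]), ([(98, 1)], [([(35, -1)], [(194, 1)])]), ([(164, 1), (137, 1), (132, 1)], [([(83, 1), (64, 1), (55, -1)],
  [(194, 1)])]), ([(141, 1)], [([(45, -1)], [(204, 1)])]), ([(144, 1), (169, -1), (148, -1)], [([(55, 1), (83, -1), (64, -1)], [(204, 1)])]), ([(175,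
  1), (184, -1), (156, 1)], [([(95, 1), (91, -1), (70, -1)], [(204, 1)])]), ([(194, 1)], [([(98, 1)], [(204, 1)])]), ([(204, 1)], [([(141, 1)],
  [(194, 1)])]), ([(245, 1), (244, -1), (242, -1), (240, 1)], [([(83, 1), (64, 1), (55, -1)], [(175, 1), (184, -1), (156, 1)])]), ([(241, 1)],
  [([(98, -1)], [(141, 1)])])]

/-- the words -/
def OG : List (SV × List SV) :=
  [([(35, 1)], [[(35, 1)], [(144, 1), (169, -1), (148, -1)], [(204, 1)]]), ([(45, 1)], [[(45, -1)], [(164, 1), (137, 1), (132, 1)], [(194, 1)]]),
  ([(98, 1)], [[(55, 1), (83, -1), (64, -1)], [(45, 1)], [(204, 1)]]), ([(141, 1)], [[(55, 1), (83, -1), (64, -1)], [(35, 1)], [(194, 1)]]), ([(194,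
  1)], [[(83, 1), (64, 1), (55, -1)], [(45, 1)]]), ([(204, 1)], [[(83, 1), (64, 1), (55, -1)], [(35, 1)]]), ([(55, 1), (83, -1), (64, -1)], [[(107,
  1), (102, 1), (75, 1)], [(35, 1)], [(164, 1), (137, 1), (132, 1)], [(204, 1)]]), ([(91, 1), (95, -1), (70, 1)], [[(107, 1), (102, 1), (75, 1)],
  [(35, 1)], [(204, 1)]]), ([(107, 1), (102, 1), (75, 1)], [[(95, 1), (91, -1), (70, -1)], [(45, 1)], [(194, 1)]]), ([(164, 1), (137, 1), (132, 1)],
  [[(45, -1)], [(241, 1)]]), ([(144, 1), (169, -1), (148, -1)], [[(35, -1)], [(241, 1)]]), ([(175, 1), (184, -1), (156, 1)], [[(107, 1), (102, 1),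
  (75, 1)], [(35, 1)]]), ([(245, 1), (244, -1), (242, -1), (240, 1)], [[(55, 1), (83, -1), (64, -1)]]), ([(241, 1)], [[(144, 1), (169, -1), (148,
  -1)], [(35, 1)]])]

/-- the toral vectors -/
def h3 : Q8 := ![0, 0, 0, 0, 0, 0, 2, 2]

/-- the toral vectors -/
def h8 : Q8 := ![2, 0, 2, 0, 2, 2, 0, 0]

/-- the toral vectors -/
def h9 : Q8 := ![2, 0, 2, 0, 2, 2, 0, 1]

theorem ct_f3 : cert [e3] (okE (lab 3) (-2)) []
    []
    [[494], [], [], [], [], [], [], [], [], [], [], [483], [], [], [], [], [], [], [476], [], [], [], [], [471], [], [], [], [467], [], [], [464],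
    [], [], [461], [], [], [], [457], [], [], [454], [], [], [451], [], [], [448], [], [], [445], [], [], [442], [], [], [], [438], [], [], [435],
    [], [], [432], [], [], [], [428], [], [], [], [], [423], [], [], [], [], [], [], [416], [], [], [413], [], [], [410], [], [], [], [406], [], [],
    [], [], [401], [], [], [], [], [], [395], [], [], [], [], [], [389], [], [], [], [], [384], [], [], [], [380], [], [], [], [501], [514805], [],
    [], [], [627], [], [], [], [623], [], [], [], [], [618], [], [], [], [], [], [612], [], [], [], [], [], [606], [], [], [], [], [601], [], [], [],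
    [597], [], [], [594], [], [], [591], [], [], [], [], [], [], [584], [], [], [], [], [579], [], [], [], [575], [], [], [572], [], [], [569], [],
    [], [], [565], [], [], [562], [], [], [559], [], [], [556], [], [], [553], [], [], [550], [], [], [], [546], [], [], [543], [], [], [540], [],
    [], [], [536], [], [], [], [], [531], [], [], [], [], [], [], [524], [], [], [], [], [], [], [], [], [], [], [513], [], [], [], [], [], [], [],
    [], [], []] = true := by decide +kernel

theorem ct_c3 : cert [e3, f3] (fun _ => false) E6
    [492, 491, 490, 489, 488, 487, 486, 485, 481, 480, 479, 478, 474, 473, 469, 459, 440, 430, 426, 425, 421, 420, 419, 418, 408, 404, 403, 399, 398,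
    397, 393, 392, 391, 387, 386, 382, 369, 365, 364, 360, 359, 358, 354, 353, 352, 348, 347, 343, 333, 332, 331, 330, 326, 325, 321, 311, 292, 282,
    278, 277, 273, 272, 271, 270, 266, 265, 264, 263, 262, 261, 260, 259, 875633455516942583280, 522962672, 580773499513910838768, 772592,
    835069137111792, 813347621360]
    [[494], [493], [0, 750], [], [], [], [], [], [], [], [], [483], [482], [0, 739], [], [], [], [], [476], [475], [0, 732], [], [], [471], [470],
    [0, 727], [], [467], [466], [0, 723], [464], [463], [0, 720], [461], [460], [0, 717], [], [457], [456], [0, 713], [454], [453], [0, 710], [451],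
    [450], [0, 707], [448], [447], [0, 704], [445], [444], [0, 701], [442], [441], [0, 698], [], [438], [437], [0, 694], [435], [434], [0, 691],
    [432], [431], [0, 688], [], [428], [427], [0, 684], [], [], [423], [422], [0, 679], [], [], [], [], [416], [415], [0, 672], [413], [412], [0,
    669], [410], [409], [0, 666], [], [406], [405], [0, 662], [], [], [401], [400], [0, 657], [], [], [], [395], [394], [0, 651], [], [], [], [389],
    [388], [0, 645], [], [], [384], [383], [0, 640], [], [380], [379], [0, 636], [632], [501], [514805], [373, 501], [0, 501], [0, 374], [627],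
    [626], [0, 371], [], [623], [622], [0, 367], [], [], [618], [617], [0, 362], [], [], [], [612], [611], [0, 356], [], [], [], [606], [605], [0,
    350], [], [], [601], [600], [0, 345], [], [597], [596], [0, 341], [594], [593], [0, 338], [591], [590], [0, 335], [], [], [], [], [584], [583],
    [0, 328], [], [], [579], [578], [0, 323], [], [575], [574], [0, 319], [572], [571], [0, 316], [569], [568], [0, 313], [], [565], [564], [0, 309],
    [562], [561], [0, 306], [559], [558], [0, 303], [556], [555], [0, 300], [553], [552], [0, 297], [550], [549], [0, 294], [], [546], [545], [0,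
    290], [543], [542], [0, 287], [540], [539], [0, 284], [], [536], [535], [0, 280], [], [], [531], [530], [0, 275], [], [], [], [], [524], [523],
    [0, 268], [], [], [], [], [], [], [], [], [513], [512], [0, 257], [], [], [], [], [], [384630], [], [631]] = true := by decide +kernel

theorem ct_z3 : cert ([e3, f3] ++ E6g) (fun _ => false) [zc]
    [538737887984]
    [[494], [493], [0, 750], [0, 0, 491], [0, 0, 0, 490], [0, 0, 0, 0, 489], [0, 0, 0, 0, 0, 487], [0, 0, 0, 0, 487], [0, 0, 0, 486], [0, 0, 485],
    [0, 0, 0, 0, 0, 0, 478], [483], [482], [0, 739], [0, 0, 0, 0, 0, 480], [0, 0, 0, 479], [0, 0, 478], [0, 0, 0, 0, 473], [476], [475], [0, 732],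
    [0, 0, 473], [0, 0, 0, 469], [471], [470], [0, 727], [0, 0, 0, 0, 0, 459], [467], [466], [0, 723], [464], [463], [0, 720], [461], [460], [0,
    717], [0, 0, 0, 0, 0, 0, 0, 497], [457], [456], [0, 713], [454], [453], [0, 710], [451], [450], [0, 707], [448], [447], [0, 704], [445], [444],
    [0, 701], [442], [441], [0, 698], [0, 0, 0, 0, 430], [438], [437], [0, 694], [435], [434], [0, 691], [432], [431], [0, 688], [0, 0, 0, 426],
    [428], [427], [0, 684], [0, 0, 425], [0, 0, 0, 0, 0, 420], [423], [422], [0, 679], [0, 0, 420], [0, 0, 0, 419], [0, 0, 0, 0, 418], [0, 0, 0, 0,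
    0, 0, 496], [416], [415], [0, 672], [413], [412], [0, 669], [410], [409], [0, 666], [0, 0, 0, 404], [406], [405], [0, 662], [0, 0, 403], [0, 0,
    0, 0, 398], [401], [400], [0, 657], [0, 0, 398], [0, 0, 0, 397], [0, 0, 0, 0, 0, 497], [395], [394], [0, 651], [0, 0, 392], [0, 0, 0, 391], [0,
    0, 0, 0, 496], [389], [388], [0, 645], [0, 0, 386], [0, 0, 0, 497], [384], [383], [0, 640], [0, 0, 499], [380], [379], [0, 636], [632], [501],
    [514805], [373, 501], [0, 501], [0, 374], [627], [626], [0, 371], [0, 0, 0, 364], [623], [622], [0, 367], [0, 0, 620], [0, 0, 0, 0, 358], [618],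
    [617], [0, 362], [0, 0, 0, 615], [0, 0, 614], [0, 0, 0, 0, 0, 603], [612], [611], [0, 356], [0, 0, 0, 609], [0, 0, 608], [0, 0, 0, 0, 603],
    [606], [605], [0, 350], [0, 0, 603], [0, 0, 0, 599], [601], [600], [0, 345], [0, 0, 0, 0, 0, 0, 321], [597], [596], [0, 341], [594], [593], [0,
    338], [591], [590], [0, 335], [0, 0, 0, 0, 588], [0, 0, 0, 587], [0, 0, 586], [0, 0, 0, 0, 0, 581], [584], [583], [0, 328], [0, 0, 581], [0, 0,
    0, 577], [579], [578], [0, 323], [0, 0, 0, 0, 567], [575], [574], [0, 319], [572], [571], [0, 316], [569], [568], [0, 313], [0, 0, 0, 0, 0, 0, 0,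
    519], [565], [564], [0, 309], [562], [561], [0, 306], [559], [558], [0, 303], [556], [555], [0, 300], [553], [552], [0, 297], [550], [549], [0,
    294], [0, 0, 0, 0, 0, 538], [546], [545], [0, 290], [543], [542], [0, 287], [540], [539], [0, 284], [0, 0, 0, 534], [536], [535], [0, 280], [0,
    0, 533], [0, 0, 0, 0, 528], [531], [530], [0, 275], [0, 0, 528], [0, 0, 0, 527], [0, 0, 0, 0, 0, 526], [0, 0, 0, 0, 0, 0, 518], [524], [523], [0,
    268], [0, 0, 521], [0, 0, 0, 520], [0, 0, 0, 0, 519], [0, 0, 0, 0, 0, 517], [0, 0, 0, 0, 517], [0, 0, 0, 516], [0, 0, 515], [0, 0, 0, 0, 0, 0, 0,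
    0, 516], [513], [512], [0, 257], [646518, 0, 625, 365, 360, 610, 333], [0, 0, 0, 0, 360, 610, 589], [384630, 0, 369, 621, 616, 354, 333], [0, 0,
    0, 0, 616, 0, 333], [646518, 0, 625, 0, 360, 0, 589], [384630], [], [631]] = true := by decide +kernel

theorem ct_f8 : cert [e8] (okE (lab 8) (-2)) []
    []
    [[], [], [492], [], [], [489], [], [487], [], [], [484], [], [476], [475], [], [], [474], [], [], [], [], [], [], [], [], [], [468], [], [464],
    [463], [], [], [], [], [], [], [458], [], [454], [453], [], [], [], [], [], [], [439], [], [], [443], [442], [], [], [], [440], [], [], [672],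
    [671], [], [], [668], [], [], [], [], [663], [662], [], [425], [], [652], [651], [], [420], [], [], [814421364208], [], [], [], [], [], [], [],
    [], [], [], [], [], [400], [], [], [], [], [], [], [], [], [], [], [644], [], [], [527159795], [], [], [], [], [], [637], [636], [], [776692],
    [], [], [502], [], [], [], [], [371], [370], [], [], [], [], [], [], [], [], [619], [], [356], [355], [], [331], [], [], [], [], [], [], [607],
    [], [601], [600], [326], [], [], [], [], [], [595], [], [], [], [592], [591], [], [], [312], [], [], [], [], [], [], [], [], [], [], [], [],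
    [567], [], [565], [564], [], [], [], [], [], [], [], [], [], [], [], [], [], [], [], [], [], [554], [553], [], [], [549], [], [], [], [], [],
    [544], [543], [], [], [539], [], [], [], [], [532], [531], [], [533], [], [], [], [523], [], [], [520], [518], [], [], [], [], [], [], [], [],
    [], [515], [], [], [], [], [], [], [], [], [], [], [], []] = true := by decide +kernel

theorem ct_c8 : cert [e8, f8] (fun _ => false) (GB ++ GC)
    [460, 450, 440, 425, 420, 397, 363, 354, 351, 339, 301, 291, 792184304, 522962672, 495, 494, 484, 443, 442, 376, 375, 336, 335, 277, 257, 256,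
    855110796671699441, 835068063369968]
    [[], [], [492], [491], [0, 748], [489], [481], [487], [480], [479], [484], [], [476], [475], [0, 745], [0, 743], [474], [477], [0, 740], [471],
    [470], [751065], [0, 730], [0, 729], [0, 732], [0, 731], [468], [465], [464], [463], [0, 724], [462], [461], [0, 720], [0, 719], [], [458],
    [455], [454], [453], [0, 714], [452], [451], [0, 710], [0, 709], [], [439], [438], [437], [443], [442], [434], [], [], [440], [], [673], [672],
    [671], [433], [432], [668], [0, 699], [0, 698], [430], [0, 696], [663], [662], [661], [425], [], [652], [651], [650], [420], [], [647],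
    [814421364208], [0, 439], [443806], [442781], [0, 672], [0, 671], [440729], [0, 670], [0, 669], [0, 668], [0, 665], [402], [401], [400], [403],
    [0, 425], [0, 663], [0, 662], [675215], [0, 656], [0, 655], [], [646], [645], [644], [392], [0, 420], [527159795], [0, 396], [0, 395], [401795],
    [0, 644], [0, 643], [637], [636], [635], [776692], [634], [633], [502], [0, 381], [0, 380], [], [], [371], [370], [0, 502], [367], [366], [624,
    502], [0, 369], [0, 627], [0, 626], [359], [619], [], [356], [355], [588, 752], [331], [613], [0, 619], [328], [327], [], [604], [607], [],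
    [601], [600], [326], [602], [0, 351], [323], [322], [321], [595], [319], [318], [], [592], [591], [], [], [312], [332, 752], [0, 333], [628298],
    [0, 331], [0, 330], [0, 612], [0, 611], [617029], [0, 326], [0, 325], [0, 601], [0, 600], [567], [573], [565], [564], [0, 595], [570], [569], [0,
    592], [0, 591], [558], [325174], [0, 311], [322098], [321073], [0, 310], [0, 309], [0, 308], [0, 306], [0, 305], [0, 312], [], [554], [553],
    [551], [550], [549], [0, 298], [0, 297], [548], [0, 293], [], [544], [543], [541], [540], [539], [0, 288], [0, 287], [538], [0, 283], [532],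
    [531], [530], [533], [], [525], [524], [523], [528], [0, 277], [520], [518], [0, 276], [0, 275], [279050], [0, 267], [0, 266], [519], [0, 264],
    [517], [0, 262], [515], [514], [0, 259], [], [], [], [], [589], [631117], [], [655729229], [674697421133], []] = true := by decide +kernel

theorem ct_k9 : cert [e9] (okE (lab 9) (-1)) [z1, z2]
    [337, 445]
    [[494], [], [], [], [], [], [], [], [], [], [], [], [], [487127], [], [], [], [], [], [471], [], [], [], [], [], [], [], [], [], [474830], [],
    [462], [], [], [], [], [], [], [], [464580], [], [452], [], [], [], [], [], [], [], [], [], [], [442], [], [], [], [], [], [749926514078],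
    [715185], [], [], [], [], [], [], [], [678290], [], [], [], [], [667270], [], [], [], [], [], [], [732349854], [], [], [], [], [], [], [], [],
    [402], [], [], [], [], [], [], [], [], [], [], [646], [], [], [], [], [], [], [], [], [], [], [], [651898], [], [], [634], [], [], [], [], [],
    [], [], [379247], [], [367], [], [], [], [], [], [], [], [], [], [363848], [], [], [], [], [328], [], [], [], [], [], [], [614979], [], [], [],
    [323], [], [], [], [], [], [], [], [], [591], [], [], [], [], [], [], [], [], [], [], [], [], [], [], [], [], [], [635179684146], [], [605754],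
    [], [], [], [], [], [], [351595058], [], [], [], [], [], [], [], [], [], [566567], [551], [], [], [], [], [], [], [], [], [556317], [541], [],
    [], [], [], [], [], [], [544013], [], [], [], [525], [], [], [], [], [], [], [], [], [], [], [], [], [], [], [], [], [], [], [512], [], [], [],
    [], [], [], [], [], []] = true := by decide +kernel

theorem ct_w9 : cert [e9, z1, z2] (fun _ => false) (GB ++ [e9, z1, z2])
    [460, 450, 440, 425, 420, 397, 363, 354, 351, 339, 301, 291, 875633455516942583280, 522962672, 375, 337, 445]
    [[494], [0, 730], [492], [491], [0, 727], [489], [481], [487], [480], [479], [484], [0, 445], [476], [0, 434], [0, 718], [0, 708], [474], [473,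
    693], [0, 414], [471], [0, 696], [0, 437], [0, 415], [0, 411], [0, 687], [0, 665], [468], [465], [464], [0, 682], [0, 402], [462], [0, 656], [0,
    660], [0, 655], [], [458], [455], [454], [0, 677], [0, 646], [452], [0, 388], [0, 649], [0, 387], [], [439], [438], [447904], [443], [], [434],
    [442], [688, 514547], [440], [], [673], [672], [749926514078], [715185], [688, 776691], [668], [0, 499], [0, 616], [430], [0, 370], [663], [0,
    359], [661], [425], [], [652], [0, 604], [650], [420], [], [647], [553868770135536], [0, 634], [732349854], [688, 514547, 478], [411, 499], [0,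
    372], [440729], [0, 643661], [0, 332], [0, 0, 475], [0, 366], [402], [0, 363], [400], [403], [0, 0, 719], [0, 614], [0, 330], [675215], [0, 355],
    [0, 583], [], [646], [0, 351], [644], [392], [0, 0, 709], [815497204211], [0, 603], [0, 325], [401795], [0, 344], [0, 578], [637], [0, 342],
    [635], [528210420], [634], [0, 311], [777718], [0, 576], [0, 310], [503], [], [371], [0, 0, 441], [368, 577842], [367], [0, 0, 412], [0, 577842],
    [0, 569], [0, 0, 431], [0, 558], [359], [619], [], [356], [0, 0, 405], [0, 564], [331], [613], [0, 297], [328], [0, 0, 425], [], [604], [607],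
    [], [601], [0, 0, 394], [326], [602], [0, 287], [323], [0, 0, 676], [321], [595], [319], [326197], [], [592], [], [591], [0, 0, 776947], [312],
    [588, 564], [0, 561], [628298], [0, 0, 662], [0, 294], [0, 0, 404], [0, 292], [617029], [0, 0, 395], [0, 284], [0, 0, 649], [0, 282], [567],
    [573], [565], [635179684146], [0, 0, 636], [605754], [561, 529, 514803], [560, 0, 499], [0, 0, 589], [558], [325174], [0, 275], [351595058], [0,
    273, 776947], [0, 524], [0, 0, 755], [0, 0, 625], [0, 522, 589], [0, 265], [0, 0, 623], [], [554], [0, 0, 364], [551], [0, 0, 587], [549], [0, 0,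
    358], [0, 263], [548], [0, 0, 328], [], [544], [0, 0, 608], [541], [0, 0, 582], [539], [0, 0, 347], [0, 261], [538], [0, 0, 323], [532], [0, 0,
    577], [530], [533], [0, 0, 337], [525], [0, 0, 595], [523], [522, 0, 318], [0, 0, 306], [520], [518], [0, 0, 320], [0, 258], [0, 0, 574], [0, 0,
    308], [0, 0, 304], [519], [0, 0, 295], [517], [0, 0, 285], [515], [514], [0, 0, 269], [512], [0, 0, 523], [], [], [589], [631117], [384628, 336],
    [694191924814413, 592], [674697421133], [694191924814413]] = true := by decide +kernel

theorem ct_g9 : cert [e9, z1, z2] (okE (lab 9) 0) GB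
    [460, 450, 440, 425, 420, 397, 363, 354, 351, 339, 301, 291, 875633455516942583280, 522962672]
    [[], [], [], [491], [], [], [481], [], [480], [], [], [0, 445], [], [], [], [], [], [473, 693], [], [], [], [0, 437], [], [], [], [], [], [465],
    [], [], [], [], [], [], [], [], [], [455], [], [], [], [], [], [], [], [], [], [], [], [], [], [], [], [], [], [], [673], [], [], [], [], [], [],
    [], [430], [], [], [], [], [], [], [], [], [], [], [], [], [], [], [], [], [], [], [440729], [], [], [], [], [], [], [], [403], [], [], [],
    [675215], [], [], [], [], [], [], [392], [], [], [], [], [401795], [], [], [], [], [], [], [], [], [], [], [], [], [], [], [], [], [], [], [],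
    [], [], [], [], [], [], [], [], [], [], [613], [], [], [], [], [], [], [], [], [], [], [602], [], [], [], [], [], [], [], [], [], [], [], [], [],
    [], [], [628298], [], [], [], [], [617029], [], [], [], [], [], [573], [], [], [], [], [], [], [], [558], [325174], [], [], [], [], [], [], [],
    [], [], [], [], [], [], [], [], [], [], [548], [], [], [], [], [], [], [], [], [], [538], [], [], [], [], [], [0, 0, 337], [], [], [], [522, 0,
    318], [], [], [], [], [], [0, 0, 574], [], [], [519], [], [517], [], [], [514], [], [], [], [], [], [589], [631117], [384628, 336],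
    [694191924814413, 592], [674697421133], [694191924814413]] = true := by decide +kernel

theorem ct_x1 : cert [e9] (fun k => okE (lab 9) (-1) k || okE (labx 9) 0 k) [z1]
    [337]
    [[], [], [], [], [], [], [], [], [], [], [], [], [], [], [], [], [], [], [], [], [], [], [], [], [], [], [], [], [], [], [], [], [], [], [], [],
    [], [], [], [], [], [], [], [], [], [], [], [], [], [], [], [], [], [], [], [], [], [], [], [], [], [], [], [], [], [], [], [], [], [], [], [],
    [], [], [], [], [], [], [], [], [], [], [], [], [], [], [], [], [], [], [], [], [], [], [], [], [], [], [], [], [], [], [], [], [], [], [], [],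
    [], [], [], [], [], [], [], [], [], [], [], [], [], [], [379247], [], [367], [], [], [], [], [], [], [], [], [], [363848], [], [], [], [], [328],
    [], [], [], [], [], [], [614979], [], [], [], [323], [], [], [], [], [], [], [], [], [591], [], [], [], [], [], [], [], [], [], [], [], [], [],
    [], [], [], [], [635179684146], [], [605754], [], [], [], [], [], [], [351595058], [], [], [], [], [], [], [], [], [], [566567], [551], [], [],
    [], [], [], [], [], [], [556317], [541], [], [], [], [], [], [], [], [544013], [], [], [], [525], [], [], [], [], [], [], [], [], [], [], [], [],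
    [], [], [], [], [], [], [], [], [], [], [], [], [], [], [], []] = true := by decide +kernel

theorem ct_xt : cert [e9] (okN (labx 9)) TB
    [494, 484, 445]
    [[494], [], [492], [491], [], [489], [481], [487], [480], [479], [484], [], [476], [487127], [], [], [474], [477], [], [471], [], [751065], [],
    [], [], [], [468], [465], [464], [474830], [], [462], [], [], [], [], [458], [455], [454], [464580], [], [452], [], [], [], [], [439], [438],
    [447904], [443], [], [434], [442], [], [440], [], [673], [672], [749926514078], [715185], [], [668], [], [], [], [], [663], [678290], [661],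
    [425], [], [652], [667270], [650], [420], [], [647], [553868770135536], [], [732349854], [], [], [], [], [], [], [], [], [402], [], [400], [],
    [], [], [], [], [], [], [], [646], [], [644], [], [], [815497204211], [], [], [], [], [], [637], [651898], [635], [528210420], [634], [],
    [777718], [], [], [503], [], [371], [], [], [], [], [], [], [], [], [359], [619], [], [356], [], [], [331], [], [], [], [], [], [604], [607], [],
    [601], [], [326], [], [], [], [], [321], [595], [319], [326197], [], [592], [], [], [], [], [], [], [], [], [], [], [], [], [], [], [], [],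
    [567], [], [565], [], [], [], [], [], [], [], [], [], [], [], [], [], [], [], [], [], [], [554], [], [], [], [], [], [], [], [], [], [544], [],
    [], [], [], [], [], [], [], [532], [], [530], [], [], [], [], [], [], [], [], [], [], [], [], [], [], [], [], [], [], [], [], [], [], [], [], [],
    [], [], [], [], [], []] = true := by decide +kernel

theorem ct_x0 : cert [e9, hv h9 ++ z1] (okE (labx 9) 0) (GB ++ [yv])
    [460, 450, 440, 425, 420, 397, 363, 354, 351, 339, 301, 291, 896648658449349205279057, 522962672, 593]
    [[], [], [], [], [0, 491], [], [], [], [], [], [], [], [], [], [0, 481], [0, 480], [], [], [0, 477], [], [0, 696], [], [0, 473], [], [0, 687],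
    [], [], [], [], [], [0, 465], [], [0, 656], [0, 660], [], [], [], [], [], [], [0, 455], [], [0, 388], [0, 649], [], [], [], [], [], [], [], [],
    [], [0, 751290], [], [], [], [], [], [], [0, 691], [], [0, 499], [], [430], [], [], [], [], [], [], [], [], [], [], [], [], [], [0, 417], [], [0,
    485023], [411, 499], [], [440729], [], [], [], [], [], [0, 363], [], [403], [], [0, 614], [], [675215], [], [], [], [], [0, 351], [], [392], [],
    [], [0, 603], [], [401795], [], [], [], [], [], [], [], [0, 311], [], [0, 576], [], [], [], [], [379247], [], [367], [], [], [], [], [], [], [],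
    [], [], [363848], [], [], [613], [], [328], [], [], [], [], [], [], [614979], [], [602], [], [323], [], [], [], [], [], [], [], [], [591], [],
    [312], [], [], [628298], [], [], [], [], [617029], [], [], [], [], [], [573], [], [635179684146], [], [605754], [], [], [], [], [325174], [],
    [351595058], [], [], [], [], [], [], [], [], [], [566567], [551], [], [549], [], [], [], [], [], [], [556317], [541], [], [539], [], [], [], [],
    [], [544013], [], [533], [], [525], [], [523], [], [], [520], [518], [], [], [], [], [], [], [], [], [], [515], [], [], [], [], [], [], [589],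
    [631117], [393859407, 336], [710852531009961549, 592], [674697421133], [694191924814413]] = true := by decide +kernel
end Cfsg.Agent.E8A.C63.G2
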