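import Cfsg.Agent.E8A.C63.Iface
import Cfsg.Agent.E8A.TwoH.V14

/-!
# `A₆` in characteristic 3: the two lattice checks `Z3`, `K9` (helper95)
-/

set_option autoImplicit false
set_option maxRecDepth 100000

namespace Cfsg.Agent.E8A.C63

open Cfsg Cfsg.Lie Module
open Cfsg.Agent.H288.E8L (Q8 wt act8 wt_inl wt_inr rt_vec exists_idx wt_inj)
open Cfsg.Agent.H942.E8Tab (e8T theta8 pos8)
open Cfsg.Agent.H942.CB (cs8)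
open Cfsg.Agent.H944.Kac (srefl srefl_cast exists_alcove)
open Cfsg.Agent.ChevalleyStructure.CoxeterGeomTypes (cartanOf)
open Cfsg.Agent.E8A.Reg5.Cls (ex mv ex_refl ex_zero tb tb_mv tb_all)
open Cfsg.Agent.E8A.Two (nm bw)

universe u

namespace Lt

theorem exists_refl (i : Fin 8) (j : chevE8.Idx) : ∃ j', ∀ y, ex (srefl chevE8 8 i y) (wt j') = ex y (wt j) ∧
    ex (srefl chevE8 8 i y) (wt j) = ex y (wt j') ∧ act8 (cs8.simple i) (wt j') = wt j := by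
  obtain ⟨j', h⟩ : ∃ j', wt j' = act8 (cs8.simple i) (wt j) := by
    rcases j with j | j
    · exact ⟨.inl j, by rw [wt_inl, act8_zero]⟩
    · obtain ⟨s, hs⟩ := exists_idx ((rt_vec j).act (cs8.simple i))
      exact ⟨.inr s, hs⟩
  have h1 : act8 (cs8.simple i) (wt j') = wt j := by rw [h, ← act8_mul, cs8.simple_mul_simple_self, act8_one]
  exact ⟨j', fun y => ⟨by rw [← ex_refl, h1], by rw [← ex_refl, h], h1⟩⟩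

theorem ex_congr {N : ℕ} {y y' : Q8} (h : ∀ i, ((y i : ℤ) : ZMod N) = ((y' i : ℤ) : ZMod N)) (a : Q8) :
    ex y a % N = ex y' a % N := by
  refine (ZMod.intCast_eq_intCast_iff' _ _ N).1 ?_
  unfold ex
  push_cast
  simp only [h]

theorem alcove {N : ℕ} (hN : 0 < N) {P : Q8 → Prop} (hP : ∀ y i, P y → P (srefl chevE8 8 i y)) {y₀ : Q8} (h : P y₀) :
    ∃ (a : Fin 8 → ℕ) (y : Q8), 2 * a 0 + 3 * a 1 + 4 * a 2 + 6 * a 3 + 5 * a 4 + 4 * a 5 + 3 * a 6 + 2 * a 7 ≤ N ∧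
      P y ∧ ∀ i, ((y i : ℤ) : ZMod N) = (((a i : ℕ) : ℤ) : ZMod N) := by
  obtain ⟨a, ⟨y, hy, h1⟩, hθ⟩ := exists_alcove e8T hN _ _ 60 (by norm_num) theta8
    (by decide) _ pos8 (fun v => ∃ y : Q8, (fun i => ((y i : ℤ) : ZMod N)) = v ∧ P y)
    (by
      rintro _ j ⟨y, rfl, hy⟩
      exact ⟨_, (srefl_cast y j).symm, hP y j hy⟩) ⟨y₀, rfl, h⟩
  refine ⟨a, y, ?_, h1, fun i => by rw [congrFun hy i, Int.cast_natCast]⟩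
  simp only [Fin.sum_univ_eight, Matrix.cons_val] at hθ
  omega

/-! ### `Z3` -/

theorem mv_le (N : ℕ) (y : Q8) (i : Fin 8) : mv N y ≤ mv N (srefl chevE8 8 i y) := by
  choose f hf using exists_refl i
  refine Finset.card_le_card_of_injOn f (fun j hj => ?_) fun j hj k _ e => ?_
  · simp only [Finset.coe_filter, Finset.mem_univ, true_and, Set.mem_ofPred_eq] at hj ⊢
    rwa [(hf j y).1]
  · simp only [Finset.coe_filter, Finset.mem_univ, true_and, Set.mem_ofPred_eq] at hj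
    refine wt_inj (by rw [← (hf j y).2.2, e, (hf k y).2.2]) fun h0 => hj ?_
    rw [h0, ex_zero, Int.zero_emod]

theorem mv_le_nm (N : ℕ) (y : Q8) : (mv N y : ℤ) ≤ 60 * nm y := by
  have h1 : ∑ j, ex y (wt j) ^ 2 = 60 * nm y := by
    rw [TwoH.sum_sq TwoH.tab_all, nm, bw, Finset.mul_sum]
    refine Finset.sum_congr rfl fun i _ => ?_
    rw [Finset.mul_sum]
    exact Finset.sum_congr rfl fun k _ => by ring
  rw [← h1, mv, Finset.card_filter, Nat.cast_sum]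
  refine Finset.sum_le_sum fun j _ => ?_
  split_ifs with h
  · have : ex y (wt j) ≠ 0 := fun e => h (by rw [e, Int.zero_emod])
    exact Int.add_one_le_of_lt (a := 0) (by positivity)
  · positivity

theorem mv_three (y : Q8) : (nm y = 2 → mv 3 y ≤ 114) ∧ (nm y = 4 → mv 3 y ≤ 156) ∧ (nm y = 6 → mv 3 y ≤ 162) := by
  obtain ⟨a, y', h1, ⟨h2, h3⟩, h4⟩ := alcove (N := 3) (by norm_num) (P := fun y' => nm y' = nm y ∧ mv 3 y ≤ mv 3 y')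
    (fun y' i h => ⟨(Two.nm_srefl y' i).trans h.1, h.2.trans (mv_le 3 y' i)⟩) ⟨rfl, le_rfl⟩
  obtain ⟨x, hx, e⟩ := tb_all 3 (by decide) ⟨a 0, by omega⟩ ⟨a 1, by omega⟩ ⟨a 2, by omega⟩ ⟨a 3, by omega⟩
    ⟨a 4, by omega⟩ ⟨a 5, by omega⟩ ⟨a 6, by omega⟩ ⟨a 7, by omega⟩ h1
  have e1 : (fun i : Fin 8 => ((x.1.getD i 0 : ℕ) : ℤ)) = fun i => (a i : ℤ) := by
    rw [e]
    funext i
    fin_cases i <;> rfl
  have h5 := tb_mv 3 (by decide) x hx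
  have h6 := Two.tb_q3 x hx
  have h7 : mv 3 y' = mv 3 fun i => (a i : ℤ) := by simp only [mv, ex_congr h4]
  have h8 := mv_le_nm 3 y'
  rw [e1, ← h7] at h5
  rw [e1, ← Two.nm_congr h4, h2] at h6
  have h9 : ∀ x ∈ tb 3, (x.2 = 80 ∨ 134 ≤ x.2 ∨ Two.q3 x.2 ≠ 2) ∧ (92 ≤ x.2 ∨ Two.q3 x.2 ≠ 1) ∧
      (86 ≤ x.2 ∨ Two.q3 x.2 ≠ 0) := by decide
  obtain ⟨k1, k2, k3⟩ := h9 x hx
  refine ⟨fun h => ?_, fun h => ?_, fun h => ?_⟩ <;> rw [h] at h6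
  · rcases k1 with k | k | k
    · omega
    · omega
    · exact absurd h6.symm k
  · exact k2.elim (fun k => by omega) fun k => absurd h6.symm k
  · exact k3.elim (fun k => by omega) fun k => absurd h6.symm k

section rank

variable {K : Type*} [Field K] {V : Type*} [AddCommGroup V] [Module K V] [FiniteDimensional K V]

theorem fr (D : Module.End K V) (U : Submodule K V) :
    finrank K (U.map D) + finrank K ↥(U ⊓ LinearMap.ker D) = finrank K U := by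
  have h := (D.domRestrict U).finrank_range_add_finrank_ker
  rw [LinearMap.range_domRestrict, LinearMap.ker_domRestrict] at h
  rw [← h, ← (Submodule.comapSubtypeEquivOfLe (inf_le_left : U ⊓ LinearMap.ker D ≤ U)).finrank_eq, Submodule.comap_inf,
    Submodule.comap_subtype_self, top_inf_eq]

theorem rank3 {D : Module.End K V} (h : ∀ v, D (D (D v)) = 0) {V0 V1 V2 : Submodule K V} (h1 : ∀ v ∈ V0, D v ∈ V1)
    (h2 : ∀ v ∈ V1, D v ∈ V2) (d1 : Disjoint V0 V1) (d2 : Disjoint (V0 ⊔ V1) V2) :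
    finrank K V0 ≤ finrank K (LinearMap.ker D) := by
  have a1 := fr D V0
  have a2 := fr D (V0.map D)
  have b1 : V0.map D ≤ V1 := Submodule.map_le_iff_le_comap.2 h1
  have b2 : (V0.map D).map D ≤ V2 := Submodule.map_le_iff_le_comap.2 fun v hv => h2 v (b1 hv)
  have c1 := Submodule.finrank_sup_add_finrank_inf_eq (V0 ⊓ LinearMap.ker D) (V0.map D ⊓ LinearMap.ker D)
  have c2 := Submodule.finrank_sup_add_finrank_inf_eq (V0 ⊓ LinearMap.ker D ⊔ V0.map D ⊓ LinearMap.ker D)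
    ((V0.map D).map D)
  rw [(d1.mono inf_le_left (inf_le_left.trans b1)).eq_bot, finrank_bot] at c1
  rw [(d2.mono (sup_le_sup inf_le_left (inf_le_left.trans b1)) b2).eq_bot, finrank_bot] at c2
  have c3 := Submodule.finrank_mono (show V0 ⊓ LinearMap.ker D ⊔ V0.map D ⊓ LinearMap.ker D ⊔ (V0.map D).map D ≤
    LinearMap.ker D from sup_le (sup_le inf_le_right inf_le_right) (by rintro _ ⟨_, ⟨v, -, rfl⟩, rfl⟩; exact h v))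
  omega

end rank

theorem disj {K : Type u} [Field K] {A B : Set Q8} (h : ∀ a ∈ A, a ∉ B) : Disjoint (LS K A) (LS K B) :=
  Submodule.disjoint_def.2 fun _ h1 h2 => funext fun i => by_contra fun e => h _ (h1 i e) (h2 i e)

theorem ex_add (y a b : Q8) : ex y (a + b) = ex y a + ex y b := by simp [ex, add_mul, Finset.sum_add_distrib]

theorem le_cd {K : Type u} [Field K] {y : Q8} {x : L8 K} (h : Cz x) (hx : x ∈ LS K (Eq' (cl y) 1)) :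
    248 ≤ cd x + mv 3 y := by
  have h1 : x ∈ LS K {a | ex y a = 1} := LS_mono (fun a ha => Int.cast_injective (α := ℝ) (Eq.trans ha Int.cast_one.symm)) hx
  have h2 := rank3 (D := (adm x).mulVecLin) (V0 := LS K {a | ex y a % 3 = 0}) (V1 := LS K {a | ex y a % 3 = 1})
    (V2 := LS K {a | ex y a % 3 = 2}) (fun v => by
      simp only [Matrix.mulVecLin_apply, Matrix.mulVec_mulVec]
      rw [← pow_two, ← pow_succ', h, Matrix.zero_mulVec])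
    (fun v hv => br_LS (fun a ha b hb => by simp only [Set.mem_ofPred_eq, ex_add] at *; omega) h1 hv)
    (fun v hv => br_LS (fun a ha b hb => by simp only [Set.mem_ofPred_eq, ex_add] at *; omega) h1 hv)
    (disj fun a ha hb => by simp only [Set.mem_ofPred_eq] at *; omega)
    ((disj (A := {a | ex y a % 3 ≠ 2}) fun a ha hb => ha hb).mono_left (sup_le
      (LS_mono fun a ha => by simp only [Set.mem_ofPred_eq] at *; omega)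
      (LS_mono fun a ha => by simp only [Set.mem_ofPred_eq] at *; omega)))
  have h3 : cen {x} = LinearMap.ker (adm x).mulVecLin :=
    Submodule.ext fun v => ⟨fun hv => hv x rfl, fun hv s hs => by rw [hs]; exact hv⟩
  have h4 := Finset.card_filter_add_card_filter_not (s := Finset.univ) fun j : chevE8.Idx => ex y (wt j) % 3 = 0
  rw [Finset.card_univ, Fintype.card_sum, Fintype.card_fin, Fintype.card_fin] at h4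
  rw [TwoH.fr_LS, ← h3] at h2
  have h5 : chevE8.rank + chevE8.nroots = 248 := rfl
  have h6 : mv 3 y = (Finset.univ.filter fun j : chevE8.Idx => ¬ ex y (wt j) % 3 = 0).card := rfl
  replace h2 : (Finset.univ.filter fun j : chevE8.Idx => ex y (wt j) % 3 = 0).card ≤ cd x := h2
  omega

/-! ### `K9` -/

/-- the points of the alcove with a vector -/
def pts : List (List ℕ × List ℤ) := [
  ([0, 0, 0, 0, 0, 0, 0, 1], [0, 0, 0, 0, 0, 0, 0, 1]), ([0, 0, 0, 0, 0, 0, 0, 2], [0, 0, 0, 0, 0, 0, 0, 1]),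
  ([0, 0, 0, 0, 0, 0, 0, 4], [0, 0, 0, 0, 0, 0, 0, 1]), ([0, 0, 0, 0, 0, 0, 1, 0], [0, 0, 0, 0, 0, 0, 1, 0]),
  ([0, 0, 0, 0, 0, 0, 1, 1], [0, 0, 0, 0, 0, 0, 0, 1]), ([0, 0, 0, 0, 0, 0, 1, 2], [0, 0, 0, 0, 0, 0, 1, 0]),
  ([0, 0, 0, 0, 0, 0, 1, 3], [0, 0, 0, 0, 0, 0, 2, -3]), ([0, 0, 0, 0, 0, 0, 2, 0], [0, 0, 0, 0, 0, 0, 1, 0]),
  ([0, 0, 0, 0, 0, 0, 2, 1], [0, 0, 0, 0, 0, 0, 1, 0]), ([0, 0, 0, 0, 0, 1, 0, 0], [0, 0, 0, 0, 0, 1, 0, 0]),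
  ([0, 0, 0, 0, 0, 1, 0, 1], [0, 0, 0, 0, 0, 1, 0, 0]), ([0, 0, 0, 0, 0, 1, 0, 2], [0, 0, 0, 0, 0, 1, 0, 0]),
  ([0, 0, 0, 0, 0, 1, 1, 0], [0, 0, 0, 0, 0, 1, 0, 0]), ([0, 0, 0, 0, 0, 1, 1, 1], [0, 0, 0, 0, 0, 3, -4, 0]),
  ([0, 0, 0, 0, 0, 2, 0, 0], [0, 0, 0, 0, 0, 1, 0, 0]), ([0, 0, 0, 0, 1, 0, 0, 0], [0, 0, 0, 0, 1, 0, 0, 0]),
  ([0, 0, 0, 0, 1, 0, 0, 1], [0, 0, 0, 0, 1, 0, 0, 0]), ([0, 0, 0, 0, 1, 0, 0, 2], [0, 0, 0, 0, 2, 0, 0, -5]),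
  ([0, 0, 0, 0, 1, 0, 1, 0], [0, 0, 0, 0, 1, 0, 0, 0]), ([0, 0, 0, 0, 1, 1, 0, 0], [0, 0, 0, 0, 4, -5, 0, 0]),
  ([0, 0, 0, 1, 0, 0, 0, 0], [0, 0, 0, 1, 0, 0, 0, 0]), ([0, 0, 0, 1, 0, 0, 0, 1], [0, 0, 0, 0, 0, 0, 0, 1]),
  ([0, 0, 0, 1, 0, 0, 1, 0], [0, 0, 0, 1, 0, 0, -2, 0]), ([0, 0, 1, 0, 0, 0, 0, 0], [0, 0, 1, 0, 0, 0, 0, 0]),
  ([0, 0, 1, 0, 0, 0, 0, 1], [0, 0, 0, 0, 0, 0, 0, 1]), ([0, 0, 1, 0, 0, 0, 0, 2], [0, 0, 1, 0, 0, 0, 0, 0]),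
  ([0, 0, 1, 0, 0, 0, 1, 0], [0, 0, 1, 0, 0, 0, 0, 0]), ([0, 0, 1, 0, 0, 0, 1, 1], [0, 0, 3, 0, 0, 0, -4, 0]),
  ([0, 0, 1, 0, 0, 1, 0, 0], [0, 0, 1, 0, 0, 0, 0, 0]), ([0, 0, 1, 0, 1, 0, 0, 0], [0, 0, 5, 0, -4, 0, 0, 0]),
  ([0, 0, 2, 0, 0, 0, 0, 0], [0, 0, 1, 0, 0, 0, 0, 0]), ([0, 1, 0, 0, 0, 0, 0, 0], [0, 1, 0, 0, 0, 0, 0, 0]),
  ([0, 1, 0, 0, 0, 0, 0, 1], [0, 1, 0, 0, 0, 0, 0, 0]), ([0, 1, 0, 0, 0, 0, 0, 2], [0, 1, 0, 0, 0, 0, 0, 0]),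
  ([0, 1, 0, 0, 0, 0, 0, 3], [0, 2, 0, 0, 0, 0, 0, -3]), ([0, 1, 0, 0, 0, 0, 1, 0], [0, 1, 0, 0, 0, 0, 0, 0]),
  ([0, 1, 0, 0, 0, 0, 1, 1], [0, 1, 0, 0, 0, 0, 0, 0]), ([0, 1, 0, 0, 0, 0, 2, 0], [0, 1, 0, 0, 0, 0, -1, 0]),
  ([0, 1, 0, 0, 0, 1, 0, 0], [0, 1, 0, 0, 0, 0, 0, 0]), ([0, 1, 0, 0, 0, 1, 0, 1], [0, 4, 0, 0, 0, -3, 0, 0]),
  ([0, 1, 0, 0, 1, 0, 0, 0], [0, 1, 0, 0, 0, 0, 0, 0]), ([0, 1, 0, 1, 0, 0, 0, 0], [0, 2, 0, -1, 0, 0, 0, 0]),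
  ([0, 1, 1, 0, 0, 0, 0, 0], [0, 0, 1, 0, 0, 0, 0, 0]), ([0, 1, 1, 0, 0, 0, 0, 1], [0, 2, 0, 0, 0, 0, 0, -3]),
  ([0, 2, 0, 0, 0, 0, 0, 0], [0, 1, 0, 0, 0, 0, 0, 0]), ([0, 2, 0, 0, 0, 0, 0, 1], [0, 1, 0, 0, 0, 0, 0, 0]),
  ([0, 2, 0, 0, 0, 0, 1, 0], [0, 1, 0, 0, 0, 0, -1, 0]), ([1, 0, 0, 0, 0, 0, 0, 0], [1, 0, 0, 0, 0, 0, 0, 0]),
  ([1, 0, 0, 0, 0, 0, 0, 1], [1, 0, 0, 0, 0, 0, 0, 0]), ([1, 0, 0, 0, 0, 0, 0, 2], [1, 0, 0, 0, 0, 0, 0, 0]),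
  ([1, 0, 0, 0, 0, 0, 0, 3], [1, 0, 0, 0, 0, 0, 0, 0]), ([1, 0, 0, 0, 0, 0, 1, 0], [1, 0, 0, 0, 0, 0, 0, 0]),
  ([1, 0, 0, 0, 0, 0, 1, 1], [1, 0, 0, 0, 0, 0, 0, 0]), ([1, 0, 0, 0, 0, 0, 1, 2], [3, 0, 0, 0, 0, 0, -2, 0]),
  ([1, 0, 0, 0, 0, 0, 2, 0], [1, 0, 0, 0, 0, 0, 0, 0]), ([1, 0, 0, 0, 0, 1, 0, 0], [1, 0, 0, 0, 0, 0, 0, 0]),
  ([1, 0, 0, 0, 0, 1, 0, 1], [1, 0, 0, 0, 0, 0, 0, 0]), ([1, 0, 0, 0, 0, 1, 1, 0], [2, 0, 0, 0, 0, -1, 0, 0]),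
  ([1, 0, 0, 0, 1, 0, 0, 0], [1, 0, 0, 0, 0, 0, 0, 0]), ([1, 0, 0, 0, 1, 0, 0, 1], [5, 0, 0, 0, -2, 0, 0, 0]),
  ([1, 0, 0, 1, 0, 0, 0, 0], [1, 0, 0, 0, 0, 0, 0, 0]), ([1, 0, 1, 0, 0, 0, 0, 0], [1, 0, 0, 0, 0, 0, 0, 0]),
  ([1, 0, 1, 0, 0, 0, 0, 1], [1, 0, 0, 0, 0, 0, 0, 0]), ([1, 0, 1, 0, 0, 0, 1, 0], [2, 0, -1, 0, 0, 0, 0, 0]),
  ([1, 1, 0, 0, 0, 0, 0, 0], [0, 1, 0, 0, 0, 0, 0, 0]), ([1, 1, 0, 0, 0, 0, 0, 1], [1, 0, 0, 0, 0, 0, 0, 0]),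
  ([1, 1, 0, 0, 0, 0, 0, 2], [3, -2, 0, 0, 0, 0, 0, 0]), ([1, 1, 0, 0, 0, 0, 1, 0], [1, 0, 0, 0, 0, 0, 0, 0]),
  ([1, 1, 0, 0, 0, 1, 0, 0], [3, -2, 0, 0, 0, 0, 0, 0]), ([1, 1, 1, 0, 0, 0, 0, 0], [3, -2, 0, 0, 0, 0, 0, 0]),
  ([1, 2, 0, 0, 0, 0, 0, 0], [1, 0, 0, 0, 0, 0, 0, 0]), ([2, 0, 0, 0, 0, 0, 0, 0], [1, 0, 0, 0, 0, 0, 0, 0]),
  ([2, 0, 0, 0, 0, 0, 0, 1], [1, 0, 0, 0, 0, 0, 0, 0]), ([2, 0, 0, 0, 0, 0, 0, 2], [1, 0, 0, 0, 0, 0, 0, 0]),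
  ([2, 0, 0, 0, 0, 0, 1, 0], [1, 0, 0, 0, 0, 0, 0, 0]), ([2, 0, 0, 0, 0, 0, 1, 1], [3, 0, 0, 0, 0, 0, -2, 0]),
  ([2, 0, 0, 0, 0, 1, 0, 0], [1, 0, 0, 0, 0, 0, 0, 0]), ([2, 0, 0, 0, 1, 0, 0, 0], [5, 0, 0, 0, -2, 0, 0, 0]),
  ([2, 0, 1, 0, 0, 0, 0, 0], [1, 0, 0, 0, 0, 0, 0, 0]), ([2, 1, 0, 0, 0, 0, 0, 0], [1, 0, 0, 0, 0, 0, 0, 0]),
  ([2, 1, 0, 0, 0, 0, 0, 1], [3, -2, 0, 0, 0, 0, 0, 0]), ([3, 0, 0, 0, 0, 0, 0, 1], [1, 0, 0, 0, 0, 0, 0, 0]),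
  ([3, 0, 0, 0, 0, 0, 1, 0], [3, 0, 0, 0, 0, 0, -2, 0]), ([3, 1, 0, 0, 0, 0, 0, 0], [3, -2, 0, 0, 0, 0, 0, 0]),
  ([4, 0, 0, 0, 0, 0, 0, 0], [1, 0, 0, 0, 0, 0, 0, 0])]

theorem pts_all : ∀ (a h : Fin 5) (b g : Fin 4) (c f : Fin 3) (d e : Fin 2),
    2 * a.val + 3 * b.val + 4 * c.val + 6 * d.val + 5 * e.val + 4 * f.val + 3 * g.val + 2 * h.val ≤ 9 →
      (∀ t ∈ [a.val, b.val, c.val, d.val, e.val, f.val, g.val, h.val], 3 ∣ t) ∨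
        [a.val, b.val, c.val, d.val, e.val, f.val, g.val, h.val] ∈ pts.map Prod.fst := by decide +kernel

theorem pts_ok : ∀ x ∈ pts, bw (fun i => x.2.getD i 0) (fun i => (x.1.getD i 0 : ℕ)) % 9 ≠ 0 ∧
    ∀ j : chevE8.Idx, ex (fun i => (x.1.getD i 0 : ℕ)) (wt j) % 9 = 0 → ex (fun i => x.2.getD i 0) (wt j) = 0 := by
  decide +kernel

theorem bw_srefl (k y : Q8) (i : Fin 8) : bw k (srefl chevE8 8 i y) = bw (srefl chevE8 8 i k) y := by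
  have h1 : ∀ y : Q8, srefl chevE8 8 i y = y + (-y i) • cartanOf chevE8 8 i := fun y => funext fun j => by
    rw [srefl, Pi.add_apply, Pi.smul_apply, smul_eq_mul, Int.cast_id]; ring
  rw [h1, h1, Two.bw_comm, Two.bw_add, Two.bw_add, Two.bw_smul, Two.bw_smul, Two.bw_cartan, Two.bw_cartan,
    Two.bw_comm y]
  ring

end Lt

open Lt

theorem z3 : Z3.{u} := fun _ _ y _ h hx => by
  have h1 := le_cd h hx
  obtain ⟨h2, h3, h4⟩ := mv_three y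
  exact ⟨fun e => by have := h2 e; omega, fun e => by have := h3 e; omega, fun e => by have := h4 e; omega⟩

theorem k9 : K9 := by
  intro y S h1 h2
  by_contra h3
  obtain ⟨a, y', h4, ⟨h5, h6⟩, h7⟩ := alcove (N := 9) (by norm_num)
    (P := fun y => (∀ k, (∀ j, ex y (wt j) % 9 = 0 → ex k (wt j) = 0) → bw k y = 0) ∧ ¬ ∀ i, (3 : ℤ) ∣ y i)
    (fun y i h => ⟨fun k hk => by
      rw [bw_srefl]
      refine h.1 _ fun j hj => ?_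
      obtain ⟨j', e⟩ := exists_refl i j
      rw [(e k).2.1]
      exact hk j' (by rwa [(e y).1]), fun hk => h.2 fun j => by
        have h8 := hk i
        have h9 := hk j
        rw [srefl, Int.cast_id] at h8 h9
        rw [Two.cartan_self] at h8
        have h10 : (3 : ℤ) ∣ y i := by omega
        simpa using h9.add (h10.mul_left (cartanOf chevE8 8 i j))⟩)
    ⟨fun k hk => h2 k fun j hj => hk j (Int.emod_eq_zero_of_dvd (h1 j hj)), h3⟩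
  rcases pts_all ⟨a 0, by omega⟩ ⟨a 7, by omega⟩ ⟨a 1, by omega⟩ ⟨a 6, by omega⟩ ⟨a 2, by omega⟩ ⟨a 5, by omega⟩
    ⟨a 3, by omega⟩ ⟨a 4, by omega⟩ h4 with h8 | h8
  · refine h6 fun i => ?_
    have h9 : 3 ∣ a i := h8 _ (by fin_cases i <;> simp)
    have h10 := (ZMod.intCast_eq_intCast_iff' _ _ 9).1 (h7 i)
    omega
  · obtain ⟨x, hx, e⟩ := List.mem_map.1 h8
    have e1 : (fun i : Fin 8 => ((x.1.getD i 0 : ℕ) : ℤ)) = fun i => (a i : ℤ) := by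
      rw [e]
      funext i
      fin_cases i <;> rfl
    obtain ⟨h9, h10⟩ := pts_ok x hx
    rw [e1] at h9 h10
    have h11 := h5 _ fun j hj => h10 j ((ex_congr h7 _).symm.trans hj)
    refine h9 (((ZMod.intCast_eq_intCast_iff' _ _ 9).1 ?_).trans (congrArg (· % ((9 : ℕ) : ℤ)) h11))
    unfold bw
    push_cast
    simp only [h7, Int.cast_natCast]

end Cfsg.Agent.E8A.C63
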