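import Cfsg.Agent.E8A.C63.ModA

/-!
# `A₆` in characteristic 3: the modules induced from the Borel subgroup (helper42)

* `Md.Hw ρ η v` : a highest weight vector; `Md.rr ρ v i` : its ten translates; `Md.exists_hw`;
* `Md.H9 ρ v` : the generator of a nine-dimensional module;
* `Md.modS` : a nonzero invariant subspace contains a fixed vector, a `T3`, a `T4` or an `H9`.
-/

set_option autoImplicit false
set_option maxRecDepth 100000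

namespace Cfsg.Agent.E8A.C63.Md

open Cfsg Cfsg.Lie Module

universe u

/-- `(3 4 5)` -/
def u2 : Alt 6 := ⟨⟨![0, 1, 2, 4, 5, 3], ![0, 1, 2, 5, 3, 4], by decide, by decide⟩, by
  rw [Equiv.Perm.mem_alternatingGroup]; decide⟩

/-- representatives of the cosets of the Borel subgroup -/
def gg : Fin 10 → Alt 6 :=
  ![1, dd, u2 * dd, u2 * u2 * dd, uu * dd, uu * u2 * dd, uu * u2 * u2 * dd, uu * uu * dd, uu * uu * u2 * dd,
    uu * uu * u2 * u2 * dd]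

/-- the generators -/
def gs : Fin 3 → Alt 6 := ![uu, yy, dd]

/-- the inverse permutations of the cosets -/
def sg : Fin 3 → Fin 10 → Fin 10 :=
  ![![0, 7, 8, 9, 1, 2, 3, 4, 5, 6], ![0, 1, 4, 7, 3, 6, 9, 2, 5, 8], ![1, 0, 2, 3, 7, 6, 5, 4, 9, 8]]

/-- the exponents -/
def tx : Fin 3 → Fin 10 → ℕ :=
  ![![1, 0, 0, 0, 0, 0, 0, 0, 0, 0], ![0, 0, 0, 0, 0, 0, 0, 0, 0, 0], ![0, 0, 0, 0, 1, 2, 2, 2, 1, 1]]

/-- the exponents -/
def ty : Fin 3 → Fin 10 → ℕ :=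
  ![![0, 0, 0, 0, 0, 0, 0, 0, 0, 0], ![0, 0, 0, 0, 0, 0, 0, 0, 0, 0], ![0, 0, 2, 1, 0, 1, 2, 0, 1, 2]]

/-- the exponents -/
def tk : Fin 3 → Fin 10 → ℕ :=
  ![![0, 0, 0, 0, 0, 0, 0, 0, 0, 0], ![1, 3, 3, 3, 3, 3, 3, 3, 3, 3], ![0, 0, 2, 2, 0, 1, 3, 0, 3, 1]]

theorem tab : ∀ s j, gs s * gg (sg s j) = gg j * (uu ^ tx s j * u2 ^ ty s j * yy ^ tk s j) := by decide +kernel

theorem sg_bij : ∀ s, Function.Bijective (sg s) := by decide +kernel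

variable {K : Type u} [Field K] {V : Type u} [AddCommGroup V] [Module K V] {ρ : Representation K (Alt 6) V}

/-- highest weight vectors -/
structure Hw (ρ : Representation K (Alt 6) V) (η : K) (v : V) : Prop where
  hu : ρ uu v = v
  hv : ρ u2 v = v
  hy : ρ yy v = η • v

/-- the translates -/
def rr (ρ : Representation K (Alt 6) V) (v : V) (i : Fin 10) : V := ρ (gg i) v

theorem rr_zero (v : V) : rr ρ v 0 = v := rho_one v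

theorem rr_mem {U : Submodule K V} (hU : InvR ρ U) {v : V} (hv : v ∈ U) (i : Fin 10) : rr ρ v i ∈ U := hU _ _ hv

theorem pow_eig {a : Alt 6} {η : K} {v : V} (h : ρ a v = η • v) (n : ℕ) : ρ (a ^ n) v = η ^ n • v := by
  induction n with
  | zero => rw [pow_zero, pow_zero, one_smul, rho_one]
  | succ n ih => rw [pow_succ, rho_mul, h, map_smul, ih, smul_smul, pow_succ']

theorem pow_fix {a : Alt 6} {v : V} (h : ρ a v = v) (n : ℕ) : ρ (a ^ n) v = v := by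
  rw [pow_eig (η := 1) (by rw [h, one_smul]), one_pow, one_smul]

theorem Hw.act {η : K} {v : V} (H : Hw ρ η v) {s : Alt 6} {i j : Fin 10} {x y k : ℕ}
    (h : s * gg i = gg j * (uu ^ x * u2 ^ y * yy ^ k)) : ρ s (rr ρ v i) = η ^ k • rr ρ v j := by
  unfold rr
  rw [← rho_mul, h, rho_mul, rho_mul, rho_mul, pow_eig H.hy, map_smul, map_smul, pow_fix H.hv, pow_fix H.hu, map_smul]

/-- every nonzero invariant subspace has a highest weight vector -/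
theorem exists_hw [CharP K 3] {ι : K} (hι : ι * ι = -1) {U : Submodule K V} (h0 : U ≠ ⊥) (hU : InvR ρ U) :
    ∃ v ∈ U, v ≠ 0 ∧ (Hw ρ 1 v ∨ Hw ρ (-1) v ∨ Hw ρ ι v ∨ Hw ρ (-ι) v) := by
  obtain ⟨v, hv, hv0, h1, h2⟩ := fix2 (a := ρ uu) (b := ρ u2)
    (fun v => by rw [← rho_mul, ← rho_mul, show uu * uu * uu = 1 by decide +kernel, rho_one])
    (fun v => by rw [← rho_mul, ← rho_mul, show u2 * u2 * u2 = 1 by decide +kernel, rho_one])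
    (fun v => by rw [← rho_mul, ← rho_mul, show uu * u2 = u2 * uu by decide +kernel]) h0 (hU uu) (hU u2)
  have hy : ∀ w : V, ρ uu w = w ∧ ρ u2 w = w → ρ uu (ρ yy w) = ρ yy w ∧ ρ u2 (ρ yy w) = ρ yy w := fun w hw =>
    ⟨by rw [← rho_mul, show uu * yy = yy * (u2 * u2) by decide +kernel, rho_mul, rho_mul, hw.2, hw.2],
      by rw [← rho_mul, show u2 * yy = yy * uu by decide +kernel, rho_mul, hw.1]⟩
  have h4 : ρ yy (ρ yy (ρ yy (ρ yy v))) = v := by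
    rw [← rho_mul, ← rho_mul, ← rho_mul, show yy * yy * yy * yy = 1 by decide +kernel, rho_one]
  obtain ⟨a1, b1⟩ := hy v ⟨h1, h2⟩
  obtain ⟨a2, b2⟩ := hy _ ⟨a1, b1⟩
  obtain ⟨a3, b3⟩ := hy _ ⟨a2, b2⟩
  have m1 := hU yy v hv
  have m2 := hU yy _ m1
  have m3 := hU yy _ m2
  by_cases c1 : v + ρ yy (ρ yy v) = 0
  · have e2 : ρ yy (ρ yy v) = -v := eq_neg_of_add_eq_zero_right c1
    by_cases c2 : v - ι • ρ yy v = 0
    · refine ⟨v, hv, hv0, Or.inr (Or.inr (Or.inr ⟨h1, h2, ?_⟩))⟩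
      have e3 : v = ι • ρ yy v := sub_eq_zero.1 c2
      calc ρ yy v = (-(ι * ι)) • ρ yy v := by rw [hι, neg_neg, one_smul]
        _ = -ι • (ι • ρ yy v) := by module
        _ = -ι • v := by rw [← e3]
    · refine ⟨_, U.sub_mem hv (U.smul_mem _ m1), c2, Or.inr (Or.inr (Or.inl ⟨?_, ?_, ?_⟩))⟩
      · rw [map_sub, map_smul, h1, a1]
      · rw [map_sub, map_smul, h2, b1]
      · rw [map_sub, map_smul, e2, smul_sub, smul_smul, hι]; module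
  · by_cases c2 : v + ρ yy (ρ yy v) + ρ yy (v + ρ yy (ρ yy v)) = 0
    · refine ⟨_, U.add_mem hv m2, c1, Or.inr (Or.inl ⟨?_, ?_, ?_⟩)⟩
      · rw [map_add, h1, a2]
      · rw [map_add, h2, b2]
      · rw [neg_one_smul]; exact eq_neg_of_add_eq_zero_right c2
    · refine ⟨_, U.add_mem (U.add_mem hv m2) (hU yy _ (U.add_mem hv m2)), c2, Or.inl ⟨?_, ?_, ?_⟩⟩
      · simp only [map_add, h1, a1, a2, a3]
      · simp only [map_add, h2, b1, b2, b3]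
      · simp only [map_add, h4, one_smul]; abel

/-! ### the model -/

/-- the coefficients -/
abbrev R : Type := Zsqrtd (-1)

/-- the vectors -/
abbrev C : Type := Fin 10 → R

/-- the action on the model -/
def mv (w : R) (s : Fin 3) (c : C) : C := fun j => w ^ tk s j * c (sg s j)

/-- zero modulo three -/
def Z3 (c : C) : Prop := ∀ i, (c i).re % 3 = 0 ∧ (c i).im % 3 = 0

/-- a combination of the `z j` modulo three -/
def Rel {n : ℕ} (z D : Fin n → C) (d : C) : Prop := Z3 (d - ∑ j, (∑ i, D j i * d i) • z j)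

/-- the value of a vector of the model -/
def ph (ψ : R →+* K) (ρ : Representation K (Alt 6) V) (v : V) : C →ₛₗ[ψ] V where
  toFun c := ∑ i, ψ (c i) • rr ρ v i
  map_add' a b := by simp only [Pi.add_apply, map_add, add_smul, Finset.sum_add_distrib]
  map_smul' a b := by simp only [Pi.smul_apply, smul_eq_mul, map_mul, Finset.smul_sum, smul_smul]

variable {ψ : R →+* K} {v : V} {w : R}

theorem ph_apply (c : C) : ph ψ ρ v c = ∑ i, ψ (c i) • rr ρ v i := rfl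

theorem ph_mem {U : Submodule K V} (hU : InvR ρ U) (hv : v ∈ U) (c : C) : ph ψ ρ v c ∈ U := by
  rw [ph_apply]
  exact U.sum_mem fun i _ => U.smul_mem _ (rr_mem hU hv i)

theorem ph_act (H : Hw ρ (ψ w) v) (s : Fin 3) (c : C) : ρ (gs s) (ph ψ ρ v c) = ph ψ ρ v (mv w s c) := by
  rw [ph_apply, ph_apply, map_sum, ← (sg_bij s).sum_comp]
  refine Finset.sum_congr rfl fun j _ => ?_
  rw [map_smul, H.act (tab s j), smul_smul, mul_comm, ← map_pow, ← map_mul]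
  rfl

theorem psi_zero [CharP K 3] {z : R} (h : z.re % 3 = 0 ∧ z.im % 3 = 0) : ψ z = 0 := by
  have h1 : ((z.re : ℤ) : K) = 0 := (CharP.intCast_eq_zero_iff K 3 _).2 (Int.dvd_of_emod_eq_zero h.1)
  have h2 : ((z.im : ℤ) : K) = 0 := (CharP.intCast_eq_zero_iff K 3 _).2 (Int.dvd_of_emod_eq_zero h.2)
  have h3 : z = (z.re : R) + Zsqrtd.sqrtd * (z.im : R) := Zsqrtd.decompose
  rw [h3, map_add, map_mul, map_intCast, map_intCast, h1, h2, mul_zero, add_zero]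

theorem ph_rel [CharP K 3] {n : ℕ} {z D : Fin n → C} (hz : ∀ j, ph ψ ρ v (z j) = 0) {c c' : C} (h : Rel z D (c - c')) :
    ph ψ ρ v c = ph ψ ρ v c' := by
  have h1 : ph ψ ρ v (c - c' - ∑ j, (∑ i, D j i * (c - c') i) • z j) = 0 := by
    rw [ph_apply]
    exact Finset.sum_eq_zero fun i _ => by rw [psi_zero (h i), zero_smul]
  rw [map_sub, map_sub, map_sum, Finset.sum_eq_zero fun j _ => by rw [map_smulₛₗ, hz, smul_zero], sub_zero] at h1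
  exact sub_eq_zero.1 h1

/-- the unit vector -/
def d0 : C := ![1, 0, 0, 0, 0, 0, 0, 0, 0, 0]

theorem ph_d0 : ph ψ ρ v d0 = v := by
  rw [ph_apply, Finset.sum_eq_single 0, show d0 0 = 1 from rfl, map_one, one_smul, rr_zero]
  · intro i _ hi
    rw [(by decide : ∀ i : Fin 10, i ≠ 0 → d0 i = 0) i hi, map_zero, zero_smul]
  · exact fun h => absurd (Finset.mem_univ _) h

/-- the check of a fixed vector -/
def C1 (w : R) {n : ℕ} (z D : Fin n → C) (m : C) : Prop := ∀ s, Rel z D (mv w s m - m)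

/-- the check of a three-dimensional module -/
def C3 (w : R) {n : ℕ} (z D : Fin n → C) (j : R) (e h f : C) : Prop :=
  j * j = -1 ∧ Rel z D (mv w 0 e - e) ∧ Rel z D (mv w 0 h - (h + e)) ∧ Rel z D (mv w 0 f - (f + h - e)) ∧
    Rel z D (mv w 1 e - j • e) ∧ Rel z D (mv w 1 h - h) ∧ Rel z D (mv w 1 f - -j • f) ∧
    Rel z D (mv w 2 e - -f) ∧ Rel z D (mv w 2 h - -h) ∧ Rel z D (mv w 2 f - -e)

/-- the check of a four-dimensional module -/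
def C4 (w : R) {n : ℕ} (z D : Fin n → C) (B : Fin 6 → C) : Prop :=
  (∀ s i, Rel z D (mv w s (B i - B 0) - (B ((gs s : Equiv.Perm (Fin 6)) i) - B ((gs s : Equiv.Perm (Fin 6)) 0)))) ∧
    Rel z D (∑ i, B i - 0)

section Mk

variable [CharP K 3] {n : ℕ} {z D : Fin n → C}

theorem mk1 (H : Hw ρ (ψ w) v) (hz : ∀ j, ph ψ ρ v (z j) = 0) {m : C} (h : C1 w z D m) (a : Alt 6) :
    ρ a (ph ψ ρ v m) = ph ψ ρ v m :=
  fix_of ((ph_act H 0 m).trans (ph_rel hz (h 0))) ((ph_act H 1 m).trans (ph_rel hz (h 1)))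
    ((ph_act H 2 m).trans (ph_rel hz (h 2))) a

theorem mk3 (H : Hw ρ (ψ w) v) (hz : ∀ j, ph ψ ρ v (z j) = 0) {j : R} {e h f : C} (hc : C3 w z D j e h f) :
    T3 ρ (ψ j) (ph ψ ρ v e) (ph ψ ρ v h) (ph ψ ρ v f) := by
  obtain ⟨h0, h1, h2, h3, h4, h5, h6, h7, h8, h9⟩ := hc
  refine ⟨by rw [← map_mul, h0, map_neg, map_one], (ph_act H 0 _).trans (ph_rel hz h1),
    (ph_act H 0 _).trans ((ph_rel hz h2).trans (map_add _ _ _)),
    (ph_act H 0 _).trans ((ph_rel hz h3).trans (by rw [map_sub, map_add])),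
    (ph_act H 1 _).trans ((ph_rel hz h4).trans (map_smulₛₗ _ _ _)), (ph_act H 1 _).trans (ph_rel hz h5),
    (ph_act H 1 _).trans ((ph_rel hz h6).trans (by rw [map_smulₛₗ, map_neg])),
    (ph_act H 2 _).trans ((ph_rel hz h7).trans (map_neg _ _)), (ph_act H 2 _).trans ((ph_rel hz h8).trans (map_neg _ _)),
    (ph_act H 2 _).trans ((ph_rel hz h9).trans (map_neg _ _))⟩

theorem mk4 (H : Hw ρ (ψ w) v) (hz : ∀ j, ph ψ ρ v (z j) = 0) {B : Fin 6 → C} (hc : C4 w z D B) :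
    T4 ρ fun i j => ph ψ ρ v (B i - B j) := by
  have hs : ∀ s i j, ρ (gs s) (ph ψ ρ v (B i - B j)) =
      ph ψ ρ v (B ((gs s : Equiv.Perm (Fin 6)) i) - B ((gs s : Equiv.Perm (Fin 6)) j)) := fun s i j => by
    rw [← sub_sub_sub_cancel_right (B i) (B j) (B 0), map_sub, map_sub, ph_act H, ph_act H, ph_rel hz (hc.1 s i),
      ph_rel hz (hc.1 s j), ← map_sub, sub_sub_sub_cancel_right]
  refine ⟨ind (p := fun a => ∀ i j, ρ a (ph ψ ρ v (B i - B j)) =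
      ph ψ ρ v (B ((a : Equiv.Perm (Fin 6)) i) - B ((a : Equiv.Perm (Fin 6)) j))) (fun i j => rho_one _)
    (fun a b ha hb i j => by rw [rho_mul, hb, ha]; rfl) (hs 0) (hs 1) (hs 2),
    fun i j k => by rw [← map_add, sub_add_sub_cancel], fun i => ?_⟩
  have h1 := ph_rel hz hc.2
  rw [map_zero, map_sum, Fin.sum_univ_six] at h1
  simp only [Fin.sum_univ_six, map_sub]
  linear_combination (norm := abel1) three (K := K) (ph ψ ρ v (B i)) + three (K := K) (ph ψ ρ v (B i)) - h1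

end Mk

/-! ### the layers -/

/-- tables -/
def e1 : C := ![0, 1, 1, 1, 1, 1, 1, 1, 1, 1]
/-- tables -/
def h1 : C := ![0, 0, ⟨0, 1⟩, ⟨0, -1⟩, -1, ⟨-1, 1⟩, ⟨-1, -1⟩, 1, ⟨1, 1⟩, ⟨1, -1⟩]
/-- tables -/
def f1 : C := ![-1, 0, 1, 1, -1, ⟨0, -1⟩, ⟨0, 1⟩, -1, ⟨0, 1⟩, ⟨0, -1⟩]
/-- tables -/
def D1 : Fin 3 → C := ![![0, 1, 0, 0, 0, 0, 0, 0, 0, 0],
    ![⟨0, -1⟩, ⟨0, 1⟩, ⟨0, -1⟩, 0, 0, 0, 0, 0, 0, 0],
    ![-1, 0, 0, 0, 0, 0, 0, 0, 0, 0]]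
/-- tables -/
def B1 : Fin 6 → C := ![![0, 0, 0, 0, 0, 0, 0, 0, 0, 0],
    ![0, 1, -1, -1, 0, ⟨1, -1⟩, ⟨1, 1⟩, -1, ⟨0, 1⟩, ⟨0, -1⟩],
    ![0, 0, -1, -1, -1, ⟨1, 1⟩, ⟨1, -1⟩, 1, ⟨0, -1⟩, ⟨0, 1⟩],
    ![1, -1, 1, 1, 1, ⟨1, -1⟩, ⟨1, 1⟩, -1, 0, 0],
    ![1, 1, -1, 1, ⟨1, 1⟩, 1, ⟨1, -1⟩, 0, -1, 0],
    ![1, -1, -1, 0, ⟨-1, -1⟩, ⟨-1, 1⟩, -1, 1, 1, 0]]
/-- tables -/
def E1 : Fin 7 → C := ![![-1, ⟨1, -1⟩, 1, ⟨0, 1⟩, ⟨1, -1⟩, 0, ⟨1, 1⟩, 0, 0, 0],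
    ![0, 1, 1, 1, 1, ⟨1, 1⟩, ⟨1, -1⟩, 0, 0, 0],
    ![-1, 1, 1, 1, -1, -1, -1, 0, 0, 0],
    ![-1, ⟨-1, 1⟩, ⟨-1, -1⟩, 0, ⟨-1, 1⟩, ⟨-1, -1⟩, 1, 0, 0, 0],
    ![0, ⟨1, 1⟩, ⟨1, -1⟩, -1, ⟨-1, 1⟩, ⟨-1, -1⟩, 1, 0, 0, 0],
    ![0, ⟨-1, 1⟩, ⟨0, 1⟩, ⟨1, 1⟩, ⟨1, 1⟩, ⟨0, 1⟩, ⟨-1, 1⟩, 0, 0, 0],
    ![0, ⟨0, -1⟩, ⟨-1, -1⟩, ⟨1, -1⟩, ⟨0, -1⟩, ⟨1, -1⟩, ⟨-1, -1⟩, 0, 0, 0]]
/-- tables -/
def k1 : C := ![1, 1, 0, 0, -1, 0, 0, 0, 0, 0]
/-- tables -/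
def l1 : C := ![0, -1, 0, 0, 0, 0, 0, 0, 0, 0]
/-- tables -/
def B2 : Fin 6 → C := ![![0, 0, 0, 0, 0, 0, 0, 0, 0, 0],
    ![0, 1, 1, 1, -1, -1, -1, 0, 0, 0],
    ![0, 1, 1, 1, 0, 0, 0, -1, -1, -1],
    ![-1, 1, 0, 0, 0, -1, -1, 0, -1, -1],
    ![-1, 0, 1, 0, -1, 0, -1, -1, 0, -1],
    ![-1, 0, 0, 1, -1, -1, 0, -1, -1, 0]]
/-- tables -/
def D2 : Fin 4 → C := ![![1, 1, -1, 0, 1, 0, 0, 0, 0, 0],
    ![0, 0, -1, 0, -1, 0, 0, 0, 0, 0],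
    ![-1, 1, -1, 0, 0, 0, 0, 0, 0, 0],
    ![-1, -1, 1, 0, 0, 0, 0, 0, 0, 0]]
/-- tables -/
def m2 : C := ![1, 1, 1, 1, 0, 0, 0, 0, 0, 0]
/-- tables -/
def n2 : C := ![0, 1, -1, 0, -1, 1, 0, 0, 0, 0]
/-- tables -/
def E2 : Fin 6 → C := ![![0, -1, -1, -1, -1, -1, 0, 0, 0, 0],
    ![1, -1, -1, 1, 1, 1, 0, 0, 0, 0],
    ![0, 0, -1, 1, -1, 1, 0, 0, 0, 0],
    ![0, -1, 0, 1, 1, -1, 0, 0, 0, 0],
    ![1, 1, 1, 1, 0, 0, 0, 0, 0, 0],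
    ![0, 1, -1, 0, -1, 1, 0, 0, 0, 0]]
/-- tables -/
def G2 : Fin 6 → C := ![![0, 0, 0, 0, 0, 0, 0, 0, 0, 0],
    ![0, -1, 0, 0, 1, 0, 0, 0, 0, 0],
    ![-1, 1, 0, 0, -1, 0, 0, 0, 0, 0],
    ![1, -1, 0, 0, 0, 0, 0, 0, 0, 0],
    ![1, 0, -1, 0, 0, 0, 0, 0, 0, 0],
    ![-1, 1, 1, 0, 0, 0, 0, 0, 0, 0]]
/-- tables -/
def y1 : Fin 3 → C := ![e1, h1, f1]
/-- tables -/
def z1 : Fin 7 → C := ![e1, h1, f1, B1 0 - B1 1, B1 0 - B1 2, B1 0 - B1 3, B1 0 - B1 4]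
/-- tables -/
def y2 : Fin 4 → C := ![B2 0 - B2 1, B2 0 - B2 2, B2 0 - B2 3, B2 0 - B2 4]
/-- tables -/
def z2 : Fin 6 → C := ![B2 0 - B2 1, B2 0 - B2 2, B2 0 - B2 3, B2 0 - B2 4, m2, n2]

theorem c1a : C3 ⟨0, 1⟩ ![] ![] ⟨0, -1⟩ e1 h1 f1 := by unfold C3 Rel Z3; decide +kernel
theorem c1b : C4 ⟨0, 1⟩ y1 D1 B1 := by unfold C4 Rel Z3; decide +kernel
theorem c1c : C3 ⟨0, 1⟩ z1 E1 ⟨0, 1⟩ d0 k1 l1 := by unfold C3 Rel Z3; decide +kernel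
theorem c2a : C4 (-1) ![] ![] B2 := by unfold C4 Rel Z3; decide +kernel
theorem c2b : C1 (-1) y2 D2 m2 := by unfold C1 Rel Z3; decide +kernel
theorem c2c : C1 (-1) y2 D2 n2 := by unfold C1 Rel Z3; decide +kernel
theorem c2d : C4 (-1) z2 E2 G2 := by unfold C4 Rel Z3; decide +kernel
theorem c2e : Rel z2 E2 (d0 - (G2 0 - G2 3 + (G2 1 - G2 4) + (G2 2 - G2 5))) := by unfold Rel Z3; decide +kernel

/-- the generator of a nine-dimensional module -/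
structure H9 (ρ : Representation K (Alt 6) V) (v : V) : Prop where
  hw : Hw ρ 1 v
  ne : v ≠ 0
  sum : ∑ i, rr ρ v i = 0

/-- a fixed vector, a `T3` or a `T4` -/
def Sm (ρ : Representation K (Alt 6) V) (U : Submodule K V) : Prop :=
  (∃ v ∈ U, v ≠ 0 ∧ ∀ a, ρ a v = v) ∨ (∃ ι e h f, T3 ρ ι e h f ∧ e ≠ 0 ∧ e ∈ U ∧ h ∈ U ∧ f ∈ U) ∨
    ∃ r, T4 ρ r ∧ r 0 1 ≠ 0 ∧ ∀ i j, r i j ∈ U

variable [CharP K 3] {U : Submodule K V}

theorem case_i (hU : InvR ρ U) {ι : K} (hι : ι * ι = -1) (H : Hw ρ ι v) (hv : v ∈ U) (h0 : v ≠ 0) : Sm ρ U := by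
  let ψ : R →+* K := Zsqrtd.lift ⟨ι, by rw [hι]; simp⟩
  have hψ : ψ ⟨0, 1⟩ = ι := by simp [ψ]
  rw [← hψ] at H
  have m := fun c => ph_mem (ψ := ψ) hU hv c
  have A := mk3 H (fun j => j.elim0) c1a
  by_cases a0 : ph ψ ρ v e1 = 0
  swap
  · exact Or.inr (Or.inl ⟨_, _, _, _, A, a0, m _, m _, m _⟩)
  have B := mk4 H (z := y1) (fun j => by
    fin_cases j
    · exact a0
    · exact (A.zero a0).1
    · exact (A.zero a0).2) c1b
  by_cases b0 : ph ψ ρ v (B1 0 - B1 1) = 0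
  swap
  · exact Or.inr (Or.inr ⟨_, B, b0, fun _ _ => m _⟩)
  have b1 := B.zero (by decide) b0
  have D := mk3 H (z := z1) (fun j => by
    fin_cases j
    · exact a0
    · exact (A.zero a0).1
    · exact (A.zero a0).2
    · exact b1 0 1
    · exact b1 0 2
    · exact b1 0 3
    · exact b1 0 4) c1c
  exact Or.inr (Or.inl ⟨_, _, _, _, D, by rwa [ph_d0], m _, m _, m _⟩)

theorem case_m (hU : InvR ρ U) {ι : K} (hι : ι * ι = -1) (H : Hw ρ (-1) v) (hv : v ∈ U) (h0 : v ≠ 0) : Sm ρ U := by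
  let ψ : R →+* K := Zsqrtd.lift ⟨ι, by rw [hι]; simp⟩
  have hψ : ψ (-1) = -1 := by rw [map_neg, map_one]
  rw [← hψ] at H
  have m := fun c => ph_mem (ψ := ψ) hU hv c
  have A := mk4 H (fun j => j.elim0) c2a
  by_cases a0 : ph ψ ρ v (B2 0 - B2 1) = 0
  swap
  · exact Or.inr (Or.inr ⟨_, A, a0, fun _ _ => m _⟩)
  have a1 := A.zero (by decide) a0
  have hy : ∀ j, ph ψ ρ v (y2 j) = 0 := fun j => by
    fin_cases j
    · exact a1 0 1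
    · exact a1 0 2
    · exact a1 0 3
    · exact a1 0 4
  by_cases b0 : ph ψ ρ v m2 = 0
  swap
  · exact Or.inl ⟨_, m _, b0, mk1 H hy c2b⟩
  by_cases b1 : ph ψ ρ v n2 = 0
  swap
  · exact Or.inl ⟨_, m _, b1, mk1 H hy c2c⟩
  have hz : ∀ j, ph ψ ρ v (z2 j) = 0 := fun j => by
    fin_cases j
    · exact a1 0 1
    · exact a1 0 2
    · exact a1 0 3
    · exact a1 0 4
    · exact b0
    · exact b1
  have D := mk4 H hz c2d
  refine Or.inr (Or.inr ⟨_, D, fun d1 => h0 ?_, fun _ _ => m _⟩)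
  have d2 := D.zero (by decide) d1
  have d3 := ph_rel hz c2e
  rw [ph_d0, map_add, map_add, d2 0 3, d2 1 4, d2 2 5, add_zero, add_zero] at d3
  exact d3

omit [CharP K 3] in
theorem Hw.act1 (H : Hw ρ 1 v) (s : Fin 3) (j : Fin 10) : ρ (gs s) (rr ρ v (sg s j)) = rr ρ v j := by
  rw [H.act (tab s j), one_pow, one_smul]

omit [CharP K 3] in
theorem case_1 (hU : InvR ρ U) (H : Hw ρ 1 v) (hv : v ∈ U) (h0 : v ≠ 0) : Sm ρ U ∨ H9 ρ v := by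
  by_cases h : ∑ i, rr ρ v i = 0
  · exact Or.inr ⟨H, h0, h⟩
  have hs : ∀ s, ρ (gs s) (∑ i, rr ρ v i) = ∑ i, rr ρ v i := fun s => by
    rw [map_sum, ← (sg_bij s).sum_comp]
    exact Finset.sum_congr rfl fun j _ => H.act1 s j
  exact Or.inl (Or.inl ⟨_, U.sum_mem fun i _ => rr_mem hU hv i, h, fix_of (hs 0) (hs 1) (hs 2)⟩)

/-- the simple modules -/
theorem modS [IsAlgClosed K] (h0 : U ≠ ⊥) (hU : InvR ρ U) : Sm ρ U ∨ ∃ v ∈ U, H9 ρ v := by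
  obtain ⟨ι, hι⟩ := IsAlgClosed.exists_eq_mul_self (-1 : K)
  obtain ⟨v, hv, hv0, H | H | H | H⟩ := exists_hw hι.symm h0 hU
  · exact (case_1 hU H hv hv0).imp id fun h => ⟨v, hv, h⟩
  · exact Or.inl (case_m hU hι.symm H hv hv0)
  · exact Or.inl (case_i hU hι.symm H hv hv0)
  · exact Or.inl (case_i hU (by rw [neg_mul_neg, ← hι]) H hv hv0)

end Cfsg.Agent.E8A.C63.Md
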