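import Cfsg.Agent.E8A.C63.NilB

/-!
# `A₆` in characteristic 3, box NIL3: the certificates (helper41)

* `rf`, `apw` : simple reflections and words; `Cls`, `chkC` : the certificate of a class; `step` : its soundness.
-/

set_option autoImplicit false
set_option maxRecDepth 100000

namespace Cfsg.Agent.E8A.C63.Nil

open Cfsg Cfsg.Lie Module
open Cfsg.Agent.H288.E8L (Q8 wt wt_inl wt_inr act8 wt_inj vec_ne_zero)
open Cfsg.Agent.H942.CB (W8 cs8)
open Cfsg.Agent.Tits.Roots (sr sr_self)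
open Cfsg.Agent.Nodes.Reps (exists_rp)
open Cfsg.Agent.E8A.Kem (Ge mem_Ge nrm cw cw_apply nrm_cw act8_simple)
open Cfsg.Agent.E8A.C63.Abc (br_Ge Ge_mono sub_pr_Gt)
open Cfsg.Agent.E8A.C63.KemA (B2_comm B2_smul cw_one)
open Cfsg.Agent.E8A.C63.Sv
open Cfsg.Agent.ChevalleyStructure.JacTab (intZ eq_zero_of_intZ insM)
open Cfsg.Agent.ChevalleyStructure.CoxeterGeom (pairing)
open Cfsg.Agent.ChevalleyStructure.CoxeterGeomTypes (cartanOf)
open Cfsg.Agent.E8A.Reg5.Cls (ex)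

universe u

/-! ### words -/

/-- the simple reflections, packed -/
def WA : ℕ := 0xeeefedecebeae9e8e7e6e5e4e2e3e1e0dfdedddbdcdad9d8d6d7d5d4d2d3d1cfd0cdcecccbcac8c9c7c5c6c3c4c2c1bfc0bdbebcbabbb9b8b7b5b6b3b4b2b0b1afaeacadabaaa9a7a8a6a5a4a3a2a19fa09d9e9c9a9b999896979594939192908f8e8d8b8c8a898887858684838280817f7e7c7d7b797a7778757674727371706e6f6d6c6b696a6867666563646261605f5d5e5c5b5a5859575654555351524f504e4d4c4b4a494748464544424341403e3f3d3b3c393a38373634353331322f302e2d2b2c292a28262725242321221f201e1c1d1b1a181917161513141211100f0e0c0d0b0a09080706050403020001efedeeecebeae9e8e7e6e5e3e4e2e1e0dfdedcdddbdad9d7d8d6d5d3d4d2d0d1cfcecccdcbc9cac8c6c7c5c4c2c3c0c1bfbebcbdbbb9bab8b6b7b5b4b2b3b1afb0aeadabacaaa9a8a6a7a5a4a3a2a0a19f9e9c9d9b999a9897959694939290918f8e8d8c8a8b8988878684858382817f807e7d7b7c78767a757977737472716f706e6d6c6a6b696867666465636261605e5f5d5c5b595a5857555654525351504e4f4d4c4b4a48494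74645434442413f403e3c3d3b3a383937353634323331302e2f2c2d2b2a282927252624222321201e1f1d1b1c1a191718161514121311100f0e0d0b0c0a09080706050403010200efeeecedebeae9e8e7e6e4e5e3e2e1e0dfdddedcdbdad8d9d7d6d4d5d3d2d1cecdd0cfcccacbc9c8c7c4c3c6c5c2c1bebdc0bfbcbbbab8b9b7b4b3b6b5b2b1b0aeafadacaaaba9a8a7a5a6a4a3a2a19e9da09f9c9b9a9899979694959392918f908e8d8c8b898a8887868583848281807e7f7a79747d7c787773727b767570716f6e6d6b6c6a6968676566646362615f605e5d5c5a5b59585657555453504f52514e4d4c4b494a4847464445434240413f3e3d3a393c3b383637353433302f32312e2d2a292c2b282726242523201f22211e1d1c1a1b191816171514131112100f0e0d0c0a0b09080706050402030100efeeedebeceae9e8e7e5e6e4e3e2e1e0dedfdddcdbd9dad8d7d6d5d1d0cfd4d3d2cecdcccbc7c6c5cac9c8c4c3c2c1c0bfbbbab9bebdbcb8b7b6b5b1b0afb4b3b2aeadacaba9aaa8a7a6a4a5a3a2a1a09f9b9a999e9d9c9897969593949291908e8f8d8c8b8a88898786858482837d7c7b7181807f7a7978777675706f6e7e7473726c6d6b6a696866676564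636260615f5e5d5b5c5a595857535251565554504f4e4d4c4a4b4948474546444342413d3c3b403f3e3a393837333231363534302f2e2d2c2b2726252a2928242322211d1c1b201f1e1a191817151614131210110f0e0d0c0b090a080706050304020100efeeedeceaebe9e8e6e7e5e4e3e2e1dfe0dedddcdbdad5d4d3d2d9d8d7d6d1d0cfcecdcccbcac9c8c1c0bfbebdbcc7c6c5c4c3c2bbbab9b8b7b6b5b4b3b2adacabaab1b0afaea9a8a7a6a5a3a4a2a1a09f9e9d9c979695949b9a9998939291908f8d8e8c8b8a89878881807f7e6d868584837d7c7b7a79787776757473726c6b6a698271706f6e6768666564636162605f5e5d5c575655545b5a5958535251504f4e4d4b4c4a4948474641403f3e454443423d3c3b3a3938373635342d2c2b2a2928333231302f2e27262524232221201f1e191817161d1c1b1a15141312110f100e0d0c0b0a08090706040503020100efeeedecebe9eae7e8e6e5e4e3e2e1e0dad9d8d7d6dfdedddcdbd5d4d3d2d1d0cfcecdcccbcac9c8c7c6c5c4c3c2b7b6b5b4b3b2b1b0afaec1c0bfbebdbcbbbab9b8adacabaaa9a8a7a6a5a4a2a3a1a09f9e9d9c9b9a99989291908f8e97969594938d8685848382688c8b8a8988818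07f7e7d7c7b7a797877767574737271706f6e6766656463876d6c6b6a69625c5b5a595861605f5e5d57565554535251504f4e4c4d4b4a494847464544434237363534333231302f2e41403f3e3d3c3b3a39382d2c2b2a292827262524232221201f1e1d1c1b1a141312111019181716150f0e0d0c0b0a09070805060403020100efeeedecebe8e7eae9e6e5e4e3e2e0e1dfdedddcdbdad9d8d7d6cbcac9c8c7c6c5c4c3c2d5d4d3d2d1d0cfcecdccc1c0bfbebdbcbbbab9b8b7b6b5b4b3b2b1b0afaea8a7a6a5a4adacabaaa9a3a2a1a09f9e9d9c9b9a99988c8b8a89888685848382629796959493879291908f8e81807f7e7d7c7b7a797877767574737271706f6e61605f5e5d685c5b5a59588d6d6c6b6a69676665646357565554535251504f4e4d4c46454443424b4a49484741403f3e3d3c3b3a393837363534333231302f2e232221201f1e1d1c1b1a2d2c2b2a292827262524191817161514131211100e0f0d0c0b0a09060508070403020100efeeedecebeae1e8e0dfdedddcdbe9e7e6e5e4e3e2dad9d8d7d6d5d4d3d2d1d0cfcecdcccbcac9c8c7c6c5c4c3c2c1c0bfbebdbcbbbab9b8a1a09f9e9d9c9b9a999897969594938c8b8a8988874db7b6b5b4b3b2b1b0afaeadacabaaa99291908f8e8da8a7a6a5a4a3868584838281807f7e7d7c7b7a797877767574737271706f6e6d6c6b6a694c4b4a4948476261605f5e5d464544434241403f3e3d3c3b3a3938a26867666564635c5b5a595857565554535251504f4e37363534333231302f2e2d2c2b2a292827262524232221201f1e1d1c1b1a19181716150d0c0b0a09080614131211100f070e050403020100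

/-- the simple reflections -/
def rf (i s : ℕ) : ℕ := Nat.land (Nat.shiftRight WA (Nat.mul 8 (Nat.add (Nat.mul 240 i) s))) 255

/-- the Cartan matrix -/
def Cm : Fin 8 → Q8 := ![![2, 0, -1, 0, 0, 0, 0, 0], ![0, 2, 0, -1, 0, 0, 0, 0], ![-1, 0, 2, -1, 0, 0, 0, 0],
  ![0, -1, -1, 2, -1, 0, 0, 0], ![0, 0, 0, -1, 2, -1, 0, 0], ![0, 0, 0, 0, -1, 2, -1, 0], ![0, 0, 0, 0, 0, -1, 2, -1],
  ![0, 0, 0, 0, 0, 0, -1, 2]]

theorem Cm_eq : ∀ i j : Fin 8, cartanOf chevE8 8 i j = Cm i j := by decide +kernel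

theorem rf_tab : ∀ i : Fin 8, ∀ s < 240, rf i s < 240 ∧ wc (rf i s) i = wc s i - dg (Cm i) s ∧
    ∀ l < 8, l = i.val ∨ wn (rf i s) l = wn s l := by decide +kernel

theorem rf_spec (i : Fin 8) {s : ℕ} (hs : s < 240) : rf i s < 240 ∧ wk (rf i s) = act8 (cs8.simple i) (wk s) := by
  obtain ⟨h1, h2, h3⟩ := rf_tab i s hs
  refine ⟨h1, funext fun l => ?_⟩
  rw [act8_simple, Pi.sub_apply, Pi.smul_apply, smul_eq_mul]
  by_cases e : l = i
  · rw [e, sr_self, mul_one, show pairing (cartanOf chevE8 8) i (wk s) = dg (Cm i) s by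
      rw [dg_eq, ex, pairing]
      exact Finset.sum_congr rfl fun k _ => by rw [Cm_eq, mul_comm]]
    exact h2
  · rw [Tits.Roots.sr_ne e, mul_zero, sub_zero]
    show Int.subNatNat _ 8 = Int.subNatNat _ 8
    rw [(h3 l l.2).resolve_left fun h => e (Fin.ext h)]

/-- words: octal digits below a leading one -/
noncomputable def apw (f : ℕ) : ℕ → ℕ → ℕ :=
  Nat.rec (motive := fun _ => ℕ → ℕ → ℕ) (fun _ s => s)
    (fun _ ih w s => Bool.rec (motive := fun _ => ℕ)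
      (frc (Nat.div w 8) fun w' => frc (rf (Nat.mod w 8) s) fun s' => ih w' s') s (Nat.ble w 1)) f

theorem apw_spec (f : ℕ) : ∀ w : ℕ, ∃ ω : W8, (w ≤ 1 → ω = 1) ∧
    ∀ s < 240, apw f w s < 240 ∧ wk (apw f w s) = act8 ω (wk s) := by
  induction f with
  | zero => exact fun w => ⟨1, fun _ => rfl, fun s hs => ⟨hs, (act8_one _).symm⟩⟩
  | succ f ih =>
    intro w
    have e : ∀ s, apw (f + 1) w s = Bool.rec (motive := fun _ => ℕ)
      (frc (Nat.div w 8) fun w' => frc (rf (Nat.mod w 8) s) fun s' => apw f w' s') s (Nat.ble w 1) := fun _ => rfl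
    by_cases h : w ≤ 1
    · refine ⟨1, fun _ => rfl, fun s hs => ?_⟩
      rw [e, Nat.ble_eq_true_of_le h]
      exact ⟨hs, (act8_one _).symm⟩
    · obtain ⟨ω, -, hω⟩ := ih (Nat.div w 8)
      refine ⟨ω * cs8.simple ⟨w % 8, Nat.mod_lt _ (by norm_num)⟩, fun h' => absurd h' h, fun s hs => ?_⟩
      have h1 := rf_spec ⟨w % 8, Nat.mod_lt _ (by norm_num)⟩ hs
      have h2 := hω _ h1.1
      rw [e, show Nat.ble w 1 = false by rw [← Bool.not_eq_true, Nat.ble_eq]; exact h, act8_mul, ← h1.2]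
      show (frc _ _ : ℕ) < 240 ∧ wk (frc _ _) = _
      rw [frc_eq, frc_eq]
      exact h2

/-! ### the data -/

/-- the simple roots of the classes, the zero class first -/
def SJ : ℕ → List (Fin 8)
  | 0 => []
  | j + 1 => SS ⟨j % 11, Nat.mod_lt _ (by norm_num)⟩

/-- their labels -/
def LB : ℕ → Q8
  | 0 => 0
  | j + 1 => lab ⟨j % 11, Nat.mod_lt _ (by norm_num)⟩

/-- their keys -/
def AJ (j : ℕ) : List ℕ := [[], [120], [120, 123], [120, 123, 141], [120, 121], [120, 123, 141, 162], [120, 121, 141],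
  [120, 121, 141, 162], [162, 135, 141, 126, 121], [162, 135, 126, 123], [162, 135, 126, 123, 120],
  [162, 135, 126, 123, 120, 141]].getD j []

/-- the representatives -/
def eL (j : ℕ) : SV := (AJ j).map fun a => (a, 1)

theorem AJ_eq : ∀ j < 12, AJ j = (SJ j).map sk ∧ (AJ j).Nodup ∧ (∀ a ∈ AJ j, a < 240) ∧ ∀ i ∈ SJ j, LB j i = 2 := by
  decide +kernel

theorem eL_eq : ∀ c : Fin 11, eL (c + 1) = eS c ∧ LB (c + 1) = lab c := by decide +kernel

/-- eight integers -/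
structure V8 where
  (a0 a1 a2 a3 a4 a5 a6 a7 : ℤ)

/-- the vector -/
def V8.q (y : V8) : Q8 := ![y.a0, y.a1, y.a2, y.a3, y.a4, y.a5, y.a6, y.a7]

/-- the degree -/
def dv (y : V8) (k : ℕ) : ℤ :=
  wc k 0 * y.a0 + wc k 1 * y.a1 + wc k 2 * y.a2 + wc k 3 * y.a3 + wc k 4 * y.a4 + wc k 5 * y.a5 + wc k 6 * y.a6 + wc k 7 * y.a7

theorem dv_eq (y : V8) (k : ℕ) : (dv y k : ℝ) = cl y.q (wk k) := by
  rw [cl_apply, ← dg_eq]
  rfl

/-- the certificate of a set of roots -/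
inductive Crt where
  | cube (k i : ℕ) (M : List ℕ)
  | conj (i : ℕ) (s : ℤ) (mv : SV) (w j : ℕ)

/-- a ray -/
structure Ray where
  key : ℤ
  rts : List ℕ
  crt : List (List ℕ × Crt)

/-- a class -/
structure Cls where
  j : ℕ
  y : V8
  nu : V8
  off : List ℕ
  kil : List ℕ
  rays : List Ray

/-- proportional outside the simple roots of the class -/
noncomputable def prp (off : List ℕ) (p q : ℤ) (a b : ℕ) : Bool :=
  off.all fun i => intZ (Int.sub (Int.mul p (wc a i)) (Int.mul q (wc b i)))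

/-- the roots outside the slice -/
noncomputable def chkK (D : Cls) (RC a n : ℕ) : Bool :=
  bif Nat.beq n 0 then RC.testBit a || (prp D.off 1 0 a a && decide (dv D.y a ≤ 2))
  else allK (fun g => prp D.off 1 1 g a && intZ (dv D.y g + 2 - dv D.y a)) (dec n) &&
    allK RC.testBit (nz (insM a (-1) (br0 (eL D.j) (dec n))))

/-- the end of a conjugation -/
noncomputable def chkE (l : SV) (w j : ℕ) : Bool :=
  (l.all fun p => Nat.blt p.1 240 && !(Nat.beq (m3 (cf l p.1)) 0) && (AJ j).contains (apw 130 w p.1)) &&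
    (AJ j).all fun a => l.any fun p => Nat.beq (apw 130 w p.1) a

/-- a set of roots on a ray -/
noncomputable def chkS (D : Cls) : List ℕ → Crt → Bool
  | S, .cube k i M => chkQ (AJ D.j ++ S) k i M
  | [b], .conj i s mv w j => D.off.contains i && !(intZ (wc b i)) && !(Nat.beq (m3 s) 0) &&
      allK (fun g => prp D.off (2 - dv D.y b) (-dv D.y g) g b) mv &&
      chkE (wS mv ((AJ D.j ++ [b]).map fun a => (a, bif Nat.beq a b then s else 1))) w j &&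
      (Nat.blt D.j j && Nat.blt j 12 || Nat.beq j D.j && Nat.ble w 1)
  | _, _ => false

/-- the sublists -/
def subs : List ℕ → List (List ℕ)
  | [] => [[]]
  | a :: l => subs l ++ (subs l).map (a :: ·)

theorem filter_mem_subs (p : ℕ → Bool) : ∀ l : List ℕ, l.filter p ∈ subs l
  | [] => List.mem_singleton_self _
  | a :: l => by
    rw [subs, List.filter_cons]
    split_ifs
    · exact List.mem_append_right _ (List.mem_map.2 ⟨_, filter_mem_subs p l, rfl⟩)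
    · exact List.mem_append_left _ (filter_mem_subs p l)

/-- a ray -/
noncomputable def chkR (D : Cls) (ρ : Ray) : Bool :=
  (ρ.rts.all fun b => Nat.blt b 240 && decide (dv D.y b < 2) && intZ (dv D.nu b * 420 - ρ.key * (2 - dv D.y b))) &&
    (subs ρ.rts).all fun S => S.isEmpty || (decide (AJ D.j ++ S).Nodup && ρ.crt.any fun c => c.1 == S && chkS D S c.2)

/-- increasing keys -/
def inc : ℤ → List Ray → Bool
  | _, [] => true
  | m, ρ :: l => decide (m < ρ.key) && inc ρ.key l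

theorem inc_spec : ∀ (m : ℤ) (l : List Ray), inc m l = true →
    (∀ ρ ∈ l, m < ρ.key) ∧ ∀ ρ ∈ l, ∀ ρ' ∈ l, ρ.key = ρ'.key → ρ = ρ'
  | _, [], _ => ⟨fun _ h => absurd h List.not_mem_nil, fun _ h => absurd h List.not_mem_nil⟩
  | m, a :: l, h => by
    rw [inc, Bool.and_eq_true, decide_eq_true_eq] at h
    obtain ⟨h1, h2⟩ := inc_spec _ l h.2
    refine ⟨fun ρ hρ => ?_, fun ρ hρ ρ' hρ' e => ?_⟩
    · rcases List.mem_cons.1 hρ with rfl | hρ
      · exact h.1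
      · exact h.1.trans (h1 ρ hρ)
    · rcases List.mem_cons.1 hρ with h3 | h3 <;> rcases List.mem_cons.1 hρ' with h4 | h4
      · rw [h3, h4]
      · exact absurd (h3 ▸ e) (h1 _ h4).ne
      · exact absurd (h4 ▸ e) (h1 _ h3).ne'
      · exact h2 _ h3 _ h4 e

/-- the set of the entries -/
def msk : List ℕ → ℕ
  | [] => 0
  | b :: l => Nat.lor (Nat.pow 2 b) (msk l)

theorem msk_spec {a : ℕ} : ∀ {l : List ℕ}, (msk l).testBit a = true → a ∈ l
  | [], h => absurd h (by rw [msk, Nat.zero_testBit]; decide)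
  | b :: l, h => by
    have h' : (2 ^ b ||| msk l).testBit a = true := h
    rw [Nat.testBit_or, Bool.or_eq_true, Nat.testBit_two_pow, decide_eq_true_eq] at h'
    rcases h' with rfl | h'
    · exact List.mem_cons_self
    · exact List.mem_cons_of_mem _ (msk_spec h')

/-- the test -/
noncomputable def chkC (D : Cls) : Bool :=
  decide (D.j < 12 ∧ LB D.j = D.y.q ∧ (∀ i : Fin 8, i ∈ SJ D.j ∨ i.val ∈ D.off ∧ Two.bw (Pi.single i 1) D.y.q = 0) ∧
    (∀ i ∈ SJ D.j, D.nu.q i = 0 ∧ i.val ∉ D.off) ∧ ∀ i ∈ D.off, i < 8) && inc (-1000000000000000) D.rays &&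
  (frc (msk (D.rays.flatMap Ray.rts)) fun RC => (List.range 240).all fun a => chkK D RC a (D.kil.getD a 0)) &&
  D.rays.all (chkR D)

/-! ### soundness -/

variable {K : Type u} [Field K]

/-- half of the cocharacter -/
noncomputable def hf (j : ℕ) : Q8 →+ ℝ := (1 / 2 : ℝ) • cl (LB j)

/-- the states -/
def St (j : ℕ) (k : Q8 →+ ℝ) (x : L8 K) : Prop := ∃ z, Lk k z x ∧ Su (AJ j) z

/-- the aim -/
def Gl (k : Q8 →+ ℝ) (x : L8 K) : Prop := ∃ (c : Fin 11) (g : G8 K), act g x = ec K c ∧ nrm (hf (c + 1)) ≤ nrm k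

open Classical in
/-- the measure -/
noncomputable def ms (j : ℕ) (k : Q8 →+ ℝ) : ℕ := (Finset.univ.filter fun x : chevE8.Idx => hf j (wt x) < 1 ∧ 1 < k (wt x)).card

theorem sk_lt' : ∀ i : Fin 8, sk i < 240 := by decide

theorem hf_sr {j : ℕ} (hj : j < 12) {i : Fin 8} (hi : i ∈ SJ j) : hf j (sr i) = 1 := by
  rw [hf, AddMonoidHom.smul_apply, cl_apply, Two.ex_sr, (AJ_eq j hj).2.2.2 i hi]
  norm_num

theorem St.norm {j : ℕ} (hj : j < 12) {k : Q8 →+ ℝ} {x : L8 K} (h : St j k x) :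
    (∀ i ∈ SJ j, k (sr i) = 1) ∧ ∃ t : G8 K, Lk k (sv K (eL j)) (act t x) := by
  classical
  obtain ⟨z, h1, h2⟩ := h
  obtain ⟨e1, e2, e3, -⟩ := AJ_eq j hj
  have h3 : ∀ i ∈ SJ j, z (ik (sk i)) ≠ 0 := fun i hi => (h2 _).2 (by
    rw [ky_ik (sk_lt' i), e1]
    exact List.mem_map_of_mem hi)
  refine ⟨fun i hi => ?_, ?_⟩
  · have := mem_Eq.1 (h1.1 _ (h3 i hi))
    rwa [wt_ik (sk_lt' i), wk_sk] at this
  obtain ⟨t, h4, h5, h6⟩ := scale h1 h2 (c := fun i => if i ∈ SJ j then (z (ik (sk i)))⁻¹ else 1) fun i => by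
    split_ifs with hi
    · exact inv_ne_zero (h3 i hi)
    · exact one_ne_zero
  refine ⟨t, ?_⟩
  rwa [h5.eq e3 e2, xs_sv (n := fun _ => 1) fun a ha => by
    rw [e1] at ha
    obtain ⟨i, hi, rfl⟩ := List.mem_map.1 ha
    rw [h6, wt_ik (sk_lt' i), wk_sk, prod_sr, if_pos hi, inv_mul_cancel₀ (h3 i hi), Int.cast_one]] at h4

theorem prp_spec {D : Cls} (h : ∀ i : Fin 8, i ∈ SJ D.j ∨ i.val ∈ D.off ∧ Two.bw (Pi.single i 1) D.y.q = 0)
    {ψ : Q8 →+ ℝ} (hψ : ∀ i ∈ SJ D.j, ψ (sr i) = 0) {p q : ℤ} {a b : ℕ} (hp : prp D.off p q a b = true) :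
    (p : ℝ) * ψ (wk a) = q * ψ (wk b) :=
  lin_prop fun i => (h i).imp (hψ i) fun hi => sub_eq_zero.1 (eq_zero_of_intZ _ (List.all_eq_true.1 hp i hi.1))

variable (K) in
/-- the slice -/
def Sl (RC : ℕ) : Submodule K (L8 K) where
  carrier := {v | ∀ i, v i ≠ 0 → RC.testBit (ky i) = true}
  zero_mem' := fun _ h => absurd rfl h
  add_mem' := fun {v w} hv hw i h => by
    by_cases e : v i = 0
    · exact hw i (by rwa [Pi.add_apply, e, zero_add] at h)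
    · exact hv i e
  smul_mem' := fun c v hv i h => hv i (right_ne_zero_of_mul h)

theorem eb_Sl {RC a : ℕ} (h : RC.testBit a = true) : eb K a ∈ Sl K RC := fun i hi => by
  by_cases e : ky i = a
  · rwa [e]
  · exact absurd (if_neg e) hi

variable [CharP K 3]

theorem slice {D : Cls} (h0 : LB D.j = D.y.q)
    (h : ∀ i : Fin 8, i ∈ SJ D.j ∨ i.val ∈ D.off ∧ Two.bw (Pi.single i 1) D.y.q = 0) {RC : ℕ}
    (hK : ∀ a < 240, chkK D RC a (D.kil.getD a 0) = true) {k : Q8 →+ ℝ} (hk : ∀ i ∈ SJ D.j, (k - hf D.j) (sr i) = 0)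
    (he : sv K (eL D.j) ∈ LS K (Eq' k 1)) (j : ℝ) (hj : 1 < j) (v : L8 K) (hv : v ∈ LS K (Eq' k j)) :
    ∃ s ∈ Sl K RC ⊓ LS K (Eq' k j), ∃ w ∈ LS K (Eq' k (j - 1)), v = s + br (sv K (eL D.j)) w := by
  have hd : ∀ a, k (wk a) = (dv D.y a : ℝ) / 2 + (k - hf D.j) (wk a) := fun a => by
    rw [dv_eq, AddMonoidHom.sub_apply, hf, h0, AddMonoidHom.smul_apply, smul_eq_mul]
    ring
  refine supp_ind (P := fun v => ∃ s ∈ Sl K RC ⊓ LS K (Eq' k j), ∃ w ∈ LS K (Eq' k (j - 1)), v = s + br (sv K (eL D.j)) w)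
    ⟨0, zero_mem _, 0, zero_mem _, by rw [TwoH.br_zero_right, add_zero]⟩
    (fun v w ⟨s, hs, a, ha, e⟩ ⟨s', hs', a', ha', e'⟩ => ⟨s + s', add_mem hs hs', a + a', add_mem ha ha', by
      rw [e, e', br_add_right]; abel⟩) fun i hi => ?_
  have h1 := mem_Eq.1 (hv i hi)
  suffices H : ∃ s ∈ Sl K RC, ∃ w ∈ LS K (Eq' k (j - 1)), ee K i = s + br (sv K (eL D.j)) w by
    obtain ⟨s, hs, w, hw, e⟩ := H
    refine ⟨v i • s, Submodule.smul_mem _ _ ⟨hs, ?_⟩, v i • w, Submodule.smul_mem _ _ hw, by rw [e, br_smul_right, smul_add]⟩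
    rw [← sub_eq_iff_eq_add.2 e]
    exact sub_mem (ee_mem_LS h1) (br_LS (fun a ha b hb => mem_Eq.2 (by rw [map_add, mem_Eq.1 ha, mem_Eq.1 hb]; ring)) he hw)
  rcases i with i | r
  · rw [wt_inl, map_zero] at h1
    linarith
  have h2 := hK r r.2
  rw [← wk_ky, ky_inr] at h1
  rw [← eb_ky, ky_inr]
  generalize D.kil.getD r 0 = n at h2
  rw [chkK] at h2
  cases e : Nat.beq n 0 <;> rw [e] at h2
  · rw [cond_false, Bool.and_eq_true] at h2
    refine ⟨-sv K (nz (insM r (-1) (br0 (eL D.j) (dec n)))), neg_mem (sv_mem_of fun q hq => eb_Sl (allK_spec h2.2 q hq)),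
      sv K (dec n), sv_mem (fun g hg => ?_) h2.1, ?_⟩
    · rw [Bool.and_eq_true] at hg
      have h3 := prp_spec h hk hg.1
      have h4 := congrArg (fun x : ℤ => (x : ℝ)) (eq_zero_of_intZ _ hg.2)
      simp only [Int.cast_sub, Int.cast_add, Int.cast_ofNat, Int.cast_zero, Int.cast_one] at h3 h4
      rw [mem_Eq, hd g, ← h1, hd r]
      linarith
    · rw [sv_nz, sv_insM, sv_br0, Int.cast_neg, Int.cast_one, neg_one_smul]
      abel
  · rw [cond_true, Bool.or_eq_true, Bool.and_eq_true, decide_eq_true_eq] at h2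
    rcases h2 with h2 | h2
    · exact ⟨_, eb_Sl h2, 0, zero_mem _, by rw [TwoH.br_zero_right, add_zero]⟩
    · have h3 := prp_spec h hk h2.1
      have h4 : (dv D.y r : ℝ) ≤ 2 := by exact_mod_cast h2.2
      rw [hd] at h1
      simp only [Int.cast_zero, Int.cast_one] at h3
      linarith

theorem chkE_sound {l : SV} {w j : ℕ} (h : chkE l w j = true) {k : Q8 →+ ℝ} {x : L8 K} (hx : Lk k (sv K l) x) :
    ∃ (g : G8 K) (k' : Q8 →+ ℝ), St j k' (act g x) ∧ nrm k' = nrm k ∧ (w ≤ 1 → k' = k) := by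
  simp only [chkE, Bool.and_eq_true, List.all_eq_true, List.any_eq_true, Bool.not_eq_true', List.contains_iff_mem,
    Nat.blt_eq, Nat.beq_eq] at h
  obtain ⟨ω, h1, h2⟩ := apw_spec 130 w
  obtain ⟨n, hn⟩ := exists_rp cs8 (nsysK K) ω
  refine ⟨n, cw k ω⁻¹, ⟨_, hx.rep hn, (su_sv fun p hp => (h.1 p hp).1.2).rep (fun a ha => ?_) hn h2 (fun a ha => ?_)
    fun a ha => ?_⟩, nrm_cw _ _, fun hw => by rw [h1 hw, inv_one, cw_one]⟩
  · obtain ⟨p, hp, rfl⟩ := List.mem_map.1 ha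
    exact (h.1 p hp).1.1
  · obtain ⟨p, hp, rfl⟩ := List.mem_map.1 ha
    exact (h.1 p hp).2
  · obtain ⟨p, hp, e⟩ := h.2 a ha
    exact ⟨p.1, List.mem_map_of_mem hp, e⟩

omit [CharP K 3] in
theorem exists_zpow [IsAlgClosed K] {n : ℤ} (hn : n ≠ 0) {u : K} (hu : u ≠ 0) : ∃ c : K, c ≠ 0 ∧ c ^ n = u := by
  obtain ⟨c, hc⟩ := IsAlgClosed.exists_pow_nat_eq u (Int.natAbs_pos.2 hn)
  have h0 : c ≠ 0 := fun e => hu (by rw [← hc, e, zero_pow (Int.natAbs_pos.2 hn).ne'])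
  rcases Int.natAbs_eq n with e | e
  · exact ⟨c, h0, by rw [e, zpow_natCast, hc]⟩
  · exact ⟨c⁻¹, inv_ne_zero h0, by rw [e, inv_zpow', neg_neg, zpow_natCast, hc]⟩

theorem chkS_sound [IsAlgClosed K] {D : Cls} (hj : D.j < 12) (h0 : LB D.j = D.y.q)
    (h : ∀ i : Fin 8, i ∈ SJ D.j ∨ i.val ∈ D.off ∧ Two.bw (Pi.single i 1) D.y.q = 0)
    (h' : ∀ i ∈ SJ D.j, D.nu.q i = 0 ∧ i.val ∉ D.off) (h8 : ∀ i ∈ D.off, i < 8) {S : List ℕ}
    (hS : ∀ b ∈ S, b < 240 ∧ dv D.y b < 2) (hn : (AJ D.j ++ S).Nodup) {c : Crt} (hc : chkS D S c = true)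
    {k : Q8 →+ ℝ} (hk : ∀ i ∈ SJ D.j, (k - hf D.j) (sr i) = 0) {z x : L8 K} (hx : Cz x) (hL : Lk k z x)
    (hz : Su (AJ D.j ++ S) z) (h1 : ∀ a ∈ AJ D.j, z (ik a) = 1) : ∃ (g : G8 K) (k' : Q8 →+ ℝ) (j : ℕ),
      St j k' (act g x) ∧ nrm k' = nrm k ∧ (D.j < j ∧ j < 12 ∨ j = D.j ∧ k' = k) := by
  classical
  obtain ⟨e1, -, e3, -⟩ := AJ_eq D.j hj
  have hA : ∀ a ∈ AJ D.j ++ S, a < 240 := fun a ha => (List.mem_append.1 ha).elim (e3 a) fun h => (hS a h).1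
  rcases c with ⟨q, i, M⟩ | ⟨i, s, mv, w, j⟩
  · exact absurd (hz.eq hA hn ▸ hL.cz hx) (chkQ_sound (by cases S <;> exact hc)
      fun a ha => (hz _).2 (by rwa [ky_ik (hA a ha)]))
  match S, hS, hn, hc, hz, hA with
  | [], _, _, hc, _, _ => exact absurd hc Bool.false_ne_true
  | _ :: _ :: _, _, _, hc, _, _ => exact absurd hc Bool.false_ne_true
  | [b], hS, hn, hc, hz, hA =>
    simp only [chkS, Bool.and_eq_true, Bool.or_eq_true, Bool.not_eq_true', List.contains_iff_mem, Nat.blt_eq, Nat.beq_eq,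
      Nat.ble_eq] at hc
    obtain ⟨⟨⟨⟨⟨c1, c2⟩, c3⟩, c4⟩, c5⟩, c6⟩ := hc
    obtain ⟨b1, b2⟩ := hS b List.mem_cons_self
    have hb : z (ik b) ≠ 0 := (hz _).2 (by rw [ky_ik b1]; exact List.mem_append_right _ List.mem_cons_self)
    have hd : ∀ a, k (wk a) = (dv D.y a : ℝ) / 2 + (k - hf D.j) (wk a) := fun a => by
      rw [dv_eq, AddMonoidHom.sub_apply, hf, h0, AddMonoidHom.smul_apply, smul_eq_mul]
      ring
    obtain ⟨u, hu, hu'⟩ := exists_zpow (n := wk b ⟨i, h8 i c1⟩) (fun e => by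
      rw [show wc b i = 0 from e] at c2
      exact absurd c2 (by decide)) (mul_ne_zero (cast_ne (K := K) c3) (inv_ne_zero hb))
    obtain ⟨t, t1, t2, t3⟩ := scale hL hz (c := fun l => if l = ⟨i, h8 i c1⟩ then u else 1) fun l => by
      split_ifs
      · exact hu
      · exact one_ne_zero
    rw [t2.eq hA hn, xs_sv (n := fun a => bif Nat.beq a b then s else 1) fun a ha => by
      rcases List.mem_append.1 ha with ha | ha
      · have e : Nat.beq a b = false := by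
          rw [← Bool.not_eq_true, Nat.beq_eq]
          exact fun e => (List.nodup_append.1 hn).2.2 a ha b List.mem_cons_self e
        have e' := h1 a ha
        rw [e1] at ha
        obtain ⟨l, hl, rfl⟩ := List.mem_map.1 ha
        rw [t3, wt_ik (sk_lt' l), wk_sk, prod_sr, if_neg fun e => (h' l hl).2 (by rw [e]; exact c1), e', e, cond_false,
          Int.cast_one, one_mul]
      · rw [List.mem_singleton.1 ha, t3, wt_ik b1, Finset.prod_eq_single ⟨i, h8 i c1⟩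
          (fun l _ hl => by rw [if_neg hl, one_zpow]) (fun h => absurd (Finset.mem_univ _) h), if_pos rfl, hu',
          Nat.beq_refl, cond_true, inv_mul_cancel_right₀ hb]] at t1
    have t4 := t1.word (w := mv) fun q hq => by
      have h3 := prp_spec h hk (allK_spec c4 q hq)
      have h4 := mem_Eq.1 (hL.1 _ hb)
      have h5 : (dv D.y b : ℝ) < 2 := by exact_mod_cast b2
      rw [wt_ik b1, hd] at h4
      simp only [Int.cast_sub, Int.cast_neg, Int.cast_ofNat] at h3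
      rw [hd]
      refine mul_left_cancel₀ (sub_pos.2 h5).ne' ?_
      rw [mul_add, h3, show (k - hf D.j) (wk b) = 1 - (dv D.y b : ℝ) / 2 by linarith]
      ring
    rw [act_wG] at t4
    obtain ⟨g, k', g1, g2, g3⟩ := chkE_sound c5 t4
    exact ⟨g * (wG K mv * t), k', j, by rwa [act_mul, act_mul], g2, c6.imp id fun h => ⟨h.1, g3 h.2⟩⟩

theorem step [IsAlgClosed K] {D : Cls} (hD : chkC D = true) {k : Q8 →+ ℝ} {x : L8 K} (h0 : x ≠ 0) (hx : Cz x)
    (hs : St D.j k x) : Gl k x ∨ ∃ (g : G8 K) (k' : Q8 →+ ℝ) (j : ℕ), St j k' (act g x) ∧ nrm k' ≤ nrm k ∧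
      (D.j < j ∧ j < 12 ∨ j = D.j ∧ ms D.j k' < ms D.j k) := by
  classical
  rw [chkC, frc_eq] at hD
  simp only [Bool.and_eq_true, decide_eq_true_eq, List.all_eq_true, List.mem_range] at hD
  obtain ⟨⟨⟨⟨d1, d2, d3, d4, d5⟩, d6⟩, d7⟩, d8⟩ := hD
  obtain ⟨e1, e2, e3, -⟩ := AJ_eq D.j d1
  obtain ⟨k1, t, ht⟩ := hs.norm d1
  have k2 : ∀ i ∈ SJ D.j, (k - hf D.j) (sr i) = 0 := fun i hi => by
    rw [AddMonoidHom.sub_apply, k1 i hi, hf_sr d1 hi, sub_self]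
  have orth : ∀ ψ : Q8 →+ ℝ, (∀ i ∈ SJ D.j, ψ (sr i) = 0) → nrm (hf D.j + ψ) = nrm (hf D.j) + nrm ψ := fun ψ hψ =>
    nrm_add (by rw [hf, B2_comm, B2_smul, B2_comm, d2, B2_orth fun i => (d3 i).imp (hψ i) And.right, mul_zero])
  have k3 := orth _ k2
  rw [add_sub_cancel] at k3
  obtain ⟨a, ha, ha'⟩ := exists_Ge ht.2
  obtain ⟨g, -, hg, hg'⟩ := kill ht.1 (slice d2 d3 d7 k2 ht.1) ha ha'
  obtain ⟨y, hy⟩ : ∃ y, y = act g (act t x) - sv K (eL D.j) := ⟨_, rfl⟩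
  rw [← hy] at hg hg'
  by_cases y0 : y = 0
  · have y1 : act (g * t) x = sv K (eL D.j) := by rw [act_mul]; exact sub_eq_zero.1 (hy ▸ y0)
    obtain ⟨j, hj⟩ : ∃ j, D.j = j := ⟨_, rfl⟩
    rw [hj] at y1 k3 d1
    rcases j with _ | j
    · exact absurd (act_eq_zero (y1.trans sv_nil)) h0
    · refine Or.inl ⟨⟨j, by omega⟩, g * t, ?_, by linarith [nrm_nn (k - hf (j + 1))]⟩
      rw [y1, ec_eq, ← (eL_eq ⟨j, by omega⟩).1]
  refine Or.inr ?_
  have hd : ∀ a, hf D.j (wk a) = (dv D.y a : ℝ) / 2 := fun a => by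
    rw [dv_eq, hf, d2, AddMonoidHom.smul_apply, smul_eq_mul]
    ring
  have ray : ∀ i, y i ≠ 0 → ∃ ρ ∈ D.rays, ky i ∈ ρ.rts := fun i hi => List.mem_flatMap.1 (msk_spec (hg i hi))
  have rts : ∀ ρ ∈ D.rays, ∀ b ∈ ρ.rts, b < 240 ∧ dv D.y b < 2 ∧ dv D.nu b * 420 = ρ.key * (2 - dv D.y b) := by
    intro ρ hρ b hb
    have := d8 ρ hρ
    simp only [chkR, Bool.and_eq_true, List.all_eq_true, decide_eq_true_eq, Nat.blt_eq] at this
    exact ⟨(this.1 b hb).1.1, (this.1 b hb).1.2, sub_eq_zero.1 (eq_zero_of_intZ _ (this.1 b hb).2)⟩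
  have y1 : ∀ i, y i ≠ 0 → hf D.j (wt i) < 1 := fun i hi => by
    obtain ⟨ρ, hρ, hb⟩ := ray i hi
    have : (dv D.y (ky i) : ℝ) < 2 := by exact_mod_cast (rts ρ hρ _ hb).2.1
    rw [← wk_ky, hd]
    linarith
  have mem : ∀ i, i ∈ Finset.univ.filter (fun i => y i ≠ 0) ↔ y i ≠ 0 := fun i => by simp
  obtain ⟨s, r, v1, v2, ⟨i₀, hi₀, v3⟩, v4, v5⟩ := vertex (φ := hf D.j) (ψ := k - hf D.j) (ν := cl D.nu.q)
    (Y := Finset.univ.filter fun i => y i ≠ 0)
    (by obtain ⟨i, hi⟩ := Function.ne_iff.1 y0; exact ⟨i, (mem i).2 hi⟩) (fun i hi => y1 i ((mem i).1 hi))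
    fun i hi => by rw [AddMonoidHom.sub_apply, add_sub_cancel]; exact ha.trans_le (hg' i ((mem i).1 hi))
  obtain ⟨ψ, hψ⟩ : ∃ ψ, ψ = s • (k - hf D.j) + r • cl D.nu.q := ⟨_, rfl⟩
  rw [← hψ] at v1 v2 v3 v4 v5
  have p1 : ∀ i ∈ SJ D.j, ψ (sr i) = 0 := fun i hi => by
    rw [hψ, AddMonoidHom.add_apply, AddMonoidHom.smul_apply, AddMonoidHom.smul_apply, k2 i hi, cl_apply, Two.ex_sr,
      (d4 i hi).1, Int.cast_zero, smul_zero, smul_zero, add_zero]
  rw [mem] at hi₀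
  obtain ⟨ρ, hρ, hb⟩ := ray i₀ hi₀
  have same : ∀ i, y i ≠ 0 → (hf D.j + ψ) (wt i) = 1 → ky i ∈ ρ.rts := fun i hi e => by
    obtain ⟨ρ', hρ', hb'⟩ := ray i hi
    have q1 := v4 i ((mem i).2 hi) i₀ ((mem i₀).2 hi₀) e v3
    obtain ⟨-, q2, q3⟩ := rts ρ hρ _ hb
    obtain ⟨-, q4, q5⟩ := rts ρ' hρ' _ hb'
    rw [← wk_ky, ← wk_ky i₀, hd, hd, ← dv_eq, ← dv_eq] at q1
    have q6 : dv D.nu (ky i) * (2 - dv D.y (ky i₀)) = dv D.nu (ky i₀) * (2 - dv D.y (ky i)) := by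
      have : (dv D.nu (ky i) : ℝ) * (2 - dv D.y (ky i₀)) = dv D.nu (ky i₀) * (2 - dv D.y (ky i)) := by linarith
      exact_mod_cast this
    rwa [(inc_spec _ _ d6).2 ρ hρ ρ' hρ' (mul_right_cancel₀ (mul_pos (sub_pos.2 q2) (sub_pos.2 q4)).ne' (by
      linear_combination -(2 - dv D.y (ky i)) * q3 + (2 - dv D.y (ky i₀)) * q5 - 420 * q6))]
  obtain ⟨S, hS⟩ : ∃ S, S = ρ.rts.filter fun b => decide (y (ik b) ≠ 0 ∧ (hf D.j + ψ) (wk b) = 1) := ⟨_, rfl⟩
  have mS : ∀ b, b ∈ S ↔ b ∈ ρ.rts ∧ y (ik b) ≠ 0 ∧ (hf D.j + ψ) (wk b) = 1 := fun b => by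
    rw [hS, List.mem_filter, decide_eq_true_eq]
  have r1 := d8 ρ hρ
  simp only [chkR, Bool.and_eq_true, List.all_eq_true, Bool.or_eq_true, decide_eq_true_eq, List.any_eq_true,
    List.isEmpty_iff] at r1
  obtain ⟨r2, c, -, -, r3⟩ := (r1.2 S (hS ▸ filter_mem_subs _ _)).resolve_left (List.ne_nil_of_mem ((mS (ky i₀)).2
    ⟨hb, by rwa [ik_ky (rts ρ hρ _ hb).1], by rw [wk_ky]; exact v3⟩))
  have ev : ∀ i, sv K (eL D.j) i = if ky i ∈ AJ D.j then 1 else 0 := fun i => by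
    rw [eL, ← xs_sv (c := fun _ => (1 : K)) (n := fun _ => 1) fun _ _ => Int.cast_one.symm, xs_apply _ _ e2]
  have yA : ∀ i, ky i ∈ AJ D.j → y i = 0 ∧ (hf D.j + ψ) (wt i) = 1 := fun i hi => by
    rw [e1] at hi
    obtain ⟨l, hl, e⟩ := List.mem_map.1 hi
    have e' : wt i = sr l := by rw [← wk_ky, ← e, wk_sk]
    refine ⟨not_not.1 fun h => ?_, by rw [e', AddMonoidHom.add_apply, hf_sr d1 hl, p1 l hl, add_zero]⟩
    have := y1 i h
    rw [e', hf_sr d1 hl] at this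
    exact lt_irrefl _ this
  have yG : y ∈ LS K (Ge (hf D.j + ψ) 1) := fun i hi => v2 i ((mem i).2 hi)
  have py : ∀ i, y i = 0 → pr (hf D.j + ψ) 1 y i = 0 := fun i hi => by
    by_cases e : (hf D.j + ψ) (wt i) = 1
    · rw [pr_pos _ e, hi]
    · exact pr_neg _ e
  obtain ⟨g', k', j, s1, s2, s3⟩ := chkS_sound d1 d2 d3 d4 d5 (fun b hb => ⟨(rts ρ hρ b ((mS b).1 hb).1).1,
      (rts ρ hρ b ((mS b).1 hb).1).2.1⟩) r2 r3 (k := hf D.j + ψ) (fun i hi => by rw [add_sub_cancel_left, p1 i hi])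
    (z := sv K (eL D.j) + pr (hf D.j + ψ) 1 y) ((hx.act t).act g)
    ⟨add_mem (fun i hi => (yA i (by rw [ev] at hi; exact of_not_not fun h => hi (if_neg h))).2) (pr_mem _ _ _), by
      rw [← sub_sub, ← hy]; exact sub_pr_Gt yG⟩
    (fun i => by
      rw [Pi.add_apply, ev, List.mem_append]
      by_cases hi : ky i ∈ AJ D.j
      · rw [if_pos hi, py i (yA i hi).1, add_zero]
        exact ⟨fun _ => Or.inl hi, fun _ => one_ne_zero⟩
      rw [if_neg hi, zero_add, mS]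
      refine ⟨fun h => ?_, fun h => ?_⟩
      · have q1 : y i ≠ 0 := fun e => h (py i e)
        have q2 : (hf D.j + ψ) (wt i) = 1 := of_not_not fun e => h (pr_neg _ e)
        have q3 := same i q1 q2
        exact Or.inr ⟨q3, by rwa [ik_ky (rts ρ hρ _ q3).1], by rwa [wk_ky]⟩
      · obtain ⟨q1, q2, q3⟩ := h.resolve_left hi
        rw [ik_ky (rts ρ hρ _ q1).1] at q2
        rwa [pr_pos _ (by rwa [wk_ky] at q3)])
    fun a ha => by
      have q1 : ky (ik a) ∈ AJ D.j := by rwa [ky_ik (e3 a ha)]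
      rw [Pi.add_apply, ev, if_pos q1, py _ (yA _ q1).1, add_zero]
  refine ⟨g' * (g * t), k', j, by rwa [act_mul, act_mul], by rw [s2, orth ψ p1, k3]; linarith, s3.imp id fun h => ⟨h.1, ?_⟩⟩
  rw [h.2]
  refine Finset.card_lt_card ⟨fun i hi => ?_, fun h => ?_⟩
  · rw [Finset.mem_filter] at hi ⊢
    have := v5 i hi.2.1 hi.2.2
    rw [AddMonoidHom.sub_apply, add_sub_cancel] at this
    exact ⟨hi.1, hi.2.1, this⟩
  · have := (Finset.mem_filter.1 (h (Finset.mem_filter.2 ⟨Finset.mem_univ i₀, y1 i₀ hi₀, ha.trans_le (hg' i₀ hi₀)⟩))).2.2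
    rw [AddMonoidHom.add_apply, v3] at this
    exact lt_irrefl _ this

end Cfsg.Agent.E8A.C63.Nil
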