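import Cfsg.Agent.E8A.C63.Basic
import Cfsg.Agent.ChevalleyStructure.JacE8

/-!
# Sparse vectors of the Lie algebra of type `E₈`: a kernel tool (helper55)

Keys: the roots `0, …, 239`, the simple coroots `240 + i`.  Python twin: `notes/E8A/c63/lean8.py`.

* `sv K l` : the vector of a list of (key, integer); `eb K k` : the basis vector; `dec n` : packed lists;
* `brS`, `br_sv` : the bracket; `nz` : normal form modulo three; `z3`, `eq3` : tests modulo three;
* `xk r t`, `xS`, `act_xk`; `wG K w`, `wS`, `act_wG` : root elements and words;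
* `wk k` : the weight of a key, `dg y k` : its degree; `allK`, `sv_mem`, `sv_mem_Eq`, `wG_Eq`;
* `exists_tor` : the torus element of a cocharacter.
-/

set_option autoImplicit false
set_option maxRecDepth 100000
set_option exponentiation.threshold 4000

namespace Cfsg.Agent.E8A.C63.Sv

open Cfsg Cfsg.Lie Module Matrix
open Cfsg.Agent.H288.E8L (Q8 wt)
open Cfsg.Agent.ChevalleyStructure Cfsg.Agent.ChevalleyStructure.JacTab Cfsg.Agent.ChevalleyStructure.JacBridge
  Cfsg.Agent.ChevalleyStructure.JacMain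
open Cfsg.Agent.ChevalleyStructure.JacDataE8 (rows Rs Hs)
open Cfsg.Agent.E8A.Reg5.Cls (ex)

universe u

/-- sparse vectors -/
abbrev SV : Type := List (ℕ × ℤ)

/-- the key of an index -/
abbrev ky : chevE8.Idx → ℕ := key chevE8

theorem ky_lt (x : chevE8.Idx) : ky x < 248 := by
  have h := key_lt chevE8 x
  rwa [nroots8, rank8] at h

theorem ky_surj {k : ℕ} (h : k < 248) : ∃ x, ky x = k := key_surj chevE8 k (by rw [nroots8, rank8]; exact h)

theorem ky_inj {x y : chevE8.Idx} (h : ky x = ky y) : x = y := key_injective chevE8 h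

theorem ky_inr (r : Fin chevE8.nroots) : ky (Sum.inr r) = r.val := rfl

theorem ky_inl (i : Fin chevE8.rank) : ky (Sum.inl i) = 240 + i.val := by rw [ky, key_inl, nroots8]

/-! ### the computations -/

/-- evaluate a number first -/
noncomputable def frc {α : Type} (n : ℕ) (f : ℕ → α) : α := Nat.rec (f 0) (fun k _ => f (Nat.succ k)) n

theorem frc_eq {α : Type} (n : ℕ) (f : ℕ → α) : frc n f = f n := by cases n <;> rfl

/-- add `c [e_R, y]` -/
noncomputable def adS (R : Row) (c : ℤ) (y acc : SV) : SV :=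
  List.rec (motive := fun _ => SV) acc (fun p _ ih => actE R p.1 (Int.mul c p.2) ih) y

/-- the bracket, not reduced -/
noncomputable def br0 (x y : SV) : SV :=
  List.rec (motive := fun _ => SV) [] (fun p _ ih => adS (rowAt rows p.1) p.2 y ih) x

/-- the residue modulo three -/
def m3 (m : ℤ) : ℕ := Int.natAbs (Int.emod m 3)

/-- reduction modulo three, with continuation -/
noncomputable def nf (l : SV) : (SV → SV) → SV :=
  List.rec (motive := fun _ => (SV → SV) → SV) (fun k => k [])
    (fun p _ ih k => ih fun t => Nat.rec (motive := fun _ => SV) (k t)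
      (fun n _ => frc p.1 fun a => Nat.rec (motive := fun _ => SV) (k ((a, Int.ofNat 1) :: t))
        (fun _ _ => k ((a, Int.negSucc 0) :: t)) n) (m3 p.2)) l

/-- reduction modulo three -/
noncomputable def nz (l : SV) : SV := nf l fun t => t

/-- the bracket -/
noncomputable def brS (x y : SV) : SV := nz (br0 x y)

/-- all coefficients are divisible by three -/
noncomputable def z3 (l : SV) : Bool :=
  List.rec (motive := fun _ => Bool) true
    (fun p _ ih => Bool.rec (motive := fun _ => Bool) false ih (Nat.beq (m3 p.2) 0)) l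

/-- the sum -/
noncomputable def adL (x y : SV) : SV := addH (Int.ofNat 1) x (addH (Int.ofNat 1) y [])

/-- equality modulo three -/
noncomputable def eq3 (x y : SV) : Bool := z3 (addH (Int.negSucc 0) x (addH (Int.ofNat 1) y []))

/-- a coefficient -/
noncomputable def cf (l : SV) (k : ℕ) : ℤ :=
  List.rec (motive := fun _ => ℤ) (Int.ofNat 0)
    (fun p _ ih => Bool.rec (motive := fun _ => ℤ) ih (Int.add p.2 ih) (Nat.beq k p.1)) l

/-- a root element -/
noncomputable def xS (r : ℕ) (t : ℤ) (l : SV) : SV :=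
  Bool.rec (motive := fun _ => SV) l
    (nz (insM r (Int.neg (Int.mul (Int.mul t t) (cf l (Nat.sub 239 r)))) (addH (Int.ofNat 1) l (adS (rowAt rows r) t l []))))
    (Nat.blt r 240)

/-- a word in root elements; the last letter acts first -/
noncomputable def wS (w : SV) (l : SV) : SV := List.rec (motive := fun _ => SV) l (fun p _ ih => xS p.1 p.2 ih) w

/-- unpacking: digits in base `1024`, `key + 256` for the coefficient `1`, `key + 512` for `-1` -/
noncomputable def decA (f : ℕ) : ℕ → SV :=
  Nat.rec (motive := fun _ => ℕ → SV) (fun _ => [])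
    (fun _ ih n => Bool.rec (motive := fun _ => SV)
      ((Nat.land n 255, Bool.rec (motive := fun _ => ℤ) (Int.negSucc 0) (Int.ofNat 1) (Nat.testBit n 8)) ::
        ih (Nat.shiftRight n 10)) [] (Nat.beq n 0)) f

/-- unpacking -/
noncomputable def dec (n : ℕ) : SV := nz (decA 300 n)

/-- all keys satisfy `p` -/
noncomputable def allK (p : ℕ → Bool) (l : SV) : Bool :=
  List.rec (motive := fun _ => Bool) true (fun q _ ih => Bool.rec (motive := fun _ => Bool) false ih (p q.1)) l

/-- the packed weights -/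
def PK : ℕ := 0x8888888888888888888888888888888888888888888888888888888888888888abcdecba9bcdecba9acdecba9abdecba9abcecba9abcdcba9abcdbba9abcdcaa9abcdbaa9abccbaa9abbcbaa9aabcbaa99abcbaa89abcbaa9abcdbb99abcdba99abccba99abbcba99aabcba999abcba989abcba99abccaa99abbcaa99aabcaa999abcaa989abcaa99abbbaa99aabbaa999abbaa989abbaa99aaabaa999aabaa989aabaa9999abaa9899abaa9889abaa99abbba999aabba9999abba9989abba999aaaba9999aaba9989aaba99999aba99899aba99889aba999aaaaa9999aaaa9989aaaa99999aaa99899aaa99889aaa999999aa998999aa998899aa998889aa999aaaa99999aaa99989aaa999999aa999899aa999889aa9999999a9998999a9998899a9998889a9999999999989999999889999998889999988889999999999898999998988999989888999898888998988888989888888899aaaa99899aaa99889aaa998999aa998899aa998889aa9989999a9988999a9988899a9988889a998999999988999999888999998888999988888999899999898899998988899989888899898888898988888889899999988899999888899998888899988888899888888898899999888899998888899988888899888888898889999888889998888889988888889888899988888899888888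8988888998888888988888898888888788888888788888877888888887888888778888877788888888788888877888887778888777788888888788888877888887778888777788877777888888887888888778888877788887777888777778877777788888888788888787888877878887778788777787877777878888877788887777888777778877777787777777888876778887767788777677877776778887667788776677877766778876667787766677876666778888888878888878788887787888777878877778787777787777777878888777788877777887777778777777777777777888767778877677787776777777767778876677787766777777667778766677777666777766667778887667788776677877766777777667788766677877666777776667787666677776666777666667788765677877656777776567787665677776656777666567787655677776556777665567776555677887656678776566777765667876656677766566776665667876556677765566776655667765556678765466777654667766546677655466776544667876545677765456776654567765545677654456776543567765435578765456677654566766545667655456676544566765435667654346676543556765434567654245676532456764324567543245665432456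

/-- a coordinate of a weight, plus eight -/
def wn (k i : ℕ) : ℕ := Nat.land (Nat.shiftRight PK (Nat.add (Nat.mul 32 k) (Nat.mul 4 i))) 15

/-- a coordinate of a weight -/
def wc (k i : ℕ) : ℤ := Int.subNatNat (wn k i) 8

/-- the weight of a key -/
def wk (k : ℕ) : Q8 := fun i => wc k i.val

/-- the degree of a key -/
def dg (y : Q8) (k : ℕ) : ℤ :=
  wc k 0 * y 0 + wc k 1 * y 1 + wc k 2 * y 2 + wc k 3 * y 3 + wc k 4 * y 4 + wc k 5 * y 5 + wc k 6 * y 6 + wc k 7 * y 7

/-- all keys have degree `d` -/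
noncomputable def dgE (y : Q8) (d : ℤ) (l : SV) : Bool := allK (fun k => intZ (Int.sub (dg y k) d)) l

/-! ### the semantics -/

section Sem

variable (K : Type u) [Field K]

/-- the basis vector of a key -/
def eb (k : ℕ) : L8 K := fun x => if ky x = k then 1 else 0

/-- the vector of a list -/
def sv (l : SV) : L8 K := fun x => ((JacTab.ev ky l x : ℤ) : K)

/-- the root element of a key -/
def xk (r : ℕ) (t : K) : G8 K := if h : r < chevE8.nroots then xr ⟨r, h⟩ t else 1

/-- the element of a word -/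
def wG (w : SV) : G8 K := (w.map fun p => xk K p.1 (p.2 : K)).prod

variable {K}

theorem eb_ky (x : chevE8.Idx) : eb K (ky x) = ee K x := by
  funext y
  rw [ee_apply, eb]
  by_cases h : y = x
  · rw [if_pos h, if_pos (by rw [h])]
  · rw [if_neg h, if_neg fun e => h (ky_inj e)]

theorem eb_root {r : ℕ} (h : r < chevE8.nroots) : eb K r = ee K (Sum.inr ⟨r, h⟩) := eb_ky (Sum.inr ⟨r, h⟩)

theorem eb_ge {k : ℕ} (h : 248 ≤ k) : eb K k = 0 := by
  funext y
  have := ky_lt y
  exact if_neg (by omega)

theorem bv_cast (k : ℕ) (x : chevE8.Idx) : ((JacTab.bv ky k x : ℤ) : K) = eb K k x := by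
  unfold JacTab.bv eb
  split_ifs <;> simp

theorem sv_nil : sv K [] = 0 := by
  funext x; simp [sv, JacTab.ev]

theorem sv_cons (p : ℕ × ℤ) (l : SV) : sv K (p :: l) = (p.2 : K) • eb K p.1 + sv K l := by
  funext x
  show ((JacTab.ev ky (p :: l) x : ℤ) : K) = (p.2 : K) * eb K p.1 x + ((JacTab.ev ky l x : ℤ) : K)
  rw [ev_cons, Pi.add_apply, Pi.smul_apply, smul_eq_mul, Int.cast_add, Int.cast_mul, bv_cast]

theorem sv_one (k : ℕ) : sv K [(k, 1)] = eb K k := by
  rw [sv_cons, sv_nil, add_zero, Int.cast_one, one_smul]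

theorem sv_append (l l' : SV) : sv K (l ++ l') = sv K l + sv K l' := by
  induction l with
  | nil => rw [List.nil_append, sv_nil, zero_add]
  | cons p l ih => rw [List.cons_append, sv_cons, sv_cons, ih, add_assoc]

theorem sv_insM (k : ℕ) (m : ℤ) (l : SV) : sv K (insM k m l) = (m : K) • eb K k + sv K l := by
  rw [← sv_cons (k, m)]
  funext x
  unfold sv
  rw [ev_insM, ev_cons]

theorem sv_addH (c : ℤ) (h acc : SV) : sv K (addH c h acc) = (c : K) • sv K h + sv K acc := by
  funext x
  show ((JacTab.ev ky (addH c h acc) x : ℤ) : K) = (c : K) * ((JacTab.ev ky h x : ℤ) : K) + ((JacTab.ev ky acc x : ℤ) : K)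
  rw [ev_addH, Pi.add_apply, Pi.smul_apply, smul_eq_mul, Int.cast_add, Int.cast_mul]

theorem sv_actE (R : Row) (k : ℕ) (c : ℤ) (acc : SV) : sv K (actE R k c acc) = (c : K) • sv K (rbr R k) + sv K acc := by
  funext x
  show ((JacTab.ev ky (actE R k c acc) x : ℤ) : K) =
    (c : K) * ((JacTab.ev ky (rbr R k) x : ℤ) : K) + ((JacTab.ev ky acc x : ℤ) : K)
  rw [ev_actE, Pi.add_apply, Pi.smul_apply, smul_eq_mul, Int.cast_add, Int.cast_mul]

theorem sv_adL (x y : SV) : sv K (adL x y) = sv K x + sv K y := by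
  rw [adL, sv_addH, sv_addH, sv_nil, add_zero]
  simp

theorem rows_lt : rows.all (fun R => Nat.blt R.r (Nat.pow 2 3968)) = true := by decide +kernel

theorem rows_len : rows.length = 248 := by decide +kernel

theorem rbr_zero (R : Row) {k : ℕ} (h : R.r >>> (16 * k) = 0) : rbr R k = [] := by
  have : Nat.land (Nat.shiftRight R.r (Nat.mul 16 k)) 65535 = 0 := by
    show (R.r >>> (16 * k)) &&& 65535 = 0
    rw [h, Nat.zero_and]
  unfold rbr
  rw [this]
  rfl

theorem ad_entry (x y z : chevE8.Idx) : adA chevE8 x y z = JacTab.ev ky (rbr (rowAt rows (ky x)) (ky z)) y := by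
  have hs : ∀ r < chevE8.nroots, Columns.sortedFrom 0 (Columns.row chevE8 r) = true := fun r hr =>
    (Good.goodAt_of_mem chevE8 (by simp) r hr).sorted
  have hn : ∀ r < chevE8.nroots, chevE8.neg r ≠ r := fun r hr => (Good.goodAt_of_mem chevE8 (by simp) r hr).neg_ne
  have B := bridge_sound chevE8 Rs Hs JacE8.bridge_ok hs
  rw [← AX_eq_adA B hn hs]
  rfl

theorem br_eb (a b : ℕ) : br (eb K a) (eb K b) = sv K (rbr (rowAt rows a) b) := by
  by_cases ha : a < 248
  · by_cases hb : b < 248
    · obtain ⟨x, rfl⟩ := ky_surj ha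
      obtain ⟨z, rfl⟩ := ky_surj hb
      rw [eb_ky, eb_ky]
      funext y
      rw [br, mulVec_ee, Par.adm_ee, ad_entry]
      rfl
    · rw [eb_ge (not_lt.1 hb), TwoH.br_zero_right, rbr_zero, sv_nil]
      have h1 : rowAt rows a ∈ rows := by
        rw [rowAt_eq, List.getD_eq_getElem _ _ (by rw [rows_len]; exact ha)]
        exact List.getElem_mem _
      have h2 : (rowAt rows a).r < 2 ^ 3968 := by
        have := List.all_eq_true.1 rows_lt _ h1
        exact Nat.blt_eq.mp this
      exact Nat.shiftRight_eq_zero _ _ (lt_of_lt_of_le h2 (Nat.pow_le_pow_right (by norm_num) (by omega)))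
  · rw [eb_ge (not_lt.1 ha), TwoH.br_zero_left, rbr_zero, sv_nil]
    rw [rowAt_eq, List.getD_eq_default _ _ (by rw [rows_len]; omega)]
    exact Nat.zero_shiftRight _

theorem sv_adS (a : ℕ) (c : ℤ) (y acc : SV) :
    sv K (adS (rowAt rows a) c y acc) = (c : K) • br (eb K a) (sv K y) + sv K acc := by
  induction y with
  | nil => rw [sv_nil, TwoH.br_zero_right, smul_zero, zero_add]; rfl
  | cons p y ih =>
    have : adS (rowAt rows a) c (p :: y) acc = actE (rowAt rows a) p.1 (c * p.2) (adS (rowAt rows a) c y acc) := rfl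
    rw [this, sv_actE, ih, sv_cons, br_add_right, br_smul_right, br_eb, smul_add, smul_smul, Int.cast_mul, add_assoc]

theorem sv_br0 (x y : SV) : sv K (br0 x y) = br (sv K x) (sv K y) := by
  induction x with
  | nil => rw [sv_nil, TwoH.br_zero_left]; exact sv_nil
  | cons p x ih =>
    have : br0 (p :: x) y = adS (rowAt rows p.1) p.2 y (br0 x y) := rfl
    rw [this, sv_adS, ih, sv_cons, br_add_left, br_smul_left]

theorem cf_eq (l : SV) (x : chevE8.Idx) : sv K l x = ((cf l (ky x) : ℤ) : K) := by
  induction l with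
  | nil => rw [sv_nil]; exact (Int.cast_zero).symm
  | cons p l ih =>
    have : cf (p :: l) (ky x) = Bool.rec (motive := fun _ => ℤ) (cf l (ky x)) (p.2 + cf l (ky x)) (Nat.beq (ky x) p.1) := rfl
    rw [this, sv_cons, Pi.add_apply, Pi.smul_apply, smul_eq_mul, ih, eb]
    cases h : Nat.beq (ky x) p.1
    · rw [if_neg (Nat.ne_of_beq_eq_false h), mul_zero, zero_add]
    · rw [if_pos (Nat.eq_of_beq_eq_true h), mul_one, Int.cast_add]

theorem allK_spec {p : ℕ → Bool} {l : SV} (h : allK p l = true) : ∀ q ∈ l, p q.1 = true := by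
  induction l with
  | nil => intro q hq; cases hq
  | cons a l ih =>
    have e : allK p (a :: l) = Bool.rec (motive := fun _ => Bool) false (allK p l) (p a.1) := rfl
    rw [e] at h
    cases h1 : p a.1
    · rw [h1] at h; cases h
    · rw [h1] at h
      intro q hq
      rcases List.mem_cons.1 hq with rfl | hq
      · exact h1
      · exact ih h q hq

theorem wc_root : ∀ r < 240, ∀ i < 8, wc r i = (chevE8.coroot.getD r #[]).getD i 0 := by decide +kernel

theorem wc_tor : ∀ j < 8, ∀ i < 8, wc (240 + j) i = 0 := by decide +kernel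

theorem wk_ky (x : chevE8.Idx) : wk (ky x) = wt x := by
  funext i
  rcases x with j | r
  · rw [ky_inl]
    exact wc_tor j.val (rank8 ▸ j.2) i.val i.2
  · have h := TwoH.cor_vec r (xi i)
    rw [ix_xi] at h
    exact (wc_root r.val (nroots8 ▸ r.2) i.val i.2).trans h

theorem wk_root {r : ℕ} (h : r < chevE8.nroots) : wk r = Nodes.RGDChev.vec chevE8 8 r := wk_ky (Sum.inr ⟨r, h⟩)

theorem dg_eq (y : Q8) (k : ℕ) : dg y k = ex y (wk k) := by
  unfold dg ex
  rw [Fin.sum_univ_eight]
  rfl

theorem eb_mem {A : Set Q8} {k : ℕ} (h : wk k ∈ A) : eb K k ∈ LS K A := by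
  by_cases hk : k < 248
  · obtain ⟨x, rfl⟩ := ky_surj hk
    rw [eb_ky]
    exact ee_mem_LS (wk_ky x ▸ h)
  · rw [eb_ge (not_lt.1 hk)]
    exact Submodule.zero_mem _

theorem sv_mem_of {U : Submodule K (L8 K)} {l : SV} (h : ∀ q ∈ l, eb K q.1 ∈ U) : sv K l ∈ U := by
  induction l with
  | nil => rw [sv_nil]; exact U.zero_mem
  | cons p l ih =>
    rw [sv_cons]
    exact U.add_mem (U.smul_mem _ (h p List.mem_cons_self)) (ih fun q hq => h q (List.mem_cons_of_mem _ hq))

theorem sv_mem {A : Set Q8} {p : ℕ → Bool} (hp : ∀ k, p k = true → wk k ∈ A) {l : SV} (h : allK p l = true) :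
    sv K l ∈ LS K A := sv_mem_of fun q hq => eb_mem (hp _ (allK_spec h q hq))

theorem dg_mem {y : Q8} {d : ℤ} {k : ℕ} (h : intZ (Int.sub (dg y k) d) = true) : wk k ∈ Eq' (cl y) (d : ℝ) := by
  have h1 : dg y k - d = 0 := eq_zero_of_intZ _ h
  rw [mem_Eq, cl_apply, ← dg_eq, sub_eq_zero.1 h1]

theorem sv_mem_Eq {y : Q8} {d : ℤ} {l : SV} (h : dgE y d l = true) : sv K l ∈ LS K (Eq' (cl y) (d : ℝ)) :=
  sv_mem (fun _ hk => dg_mem hk) h

theorem wG_nil : wG K [] = 1 := rfl

theorem wG_cons (p : ℕ × ℤ) (w : SV) : wG K (p :: w) = xk K p.1 (p.2 : K) * wG K w := by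
  rw [wG, List.map_cons, List.prod_cons]; rfl

theorem xk_LS {A : Set Q8} {r : ℕ} (h : ∀ a ∈ A, a + wk r ∈ A) (t : K) {v : L8 K} (hv : v ∈ LS K A) :
    act (xk K r t) v ∈ LS K A := by
  unfold xk
  split_ifs with hr
  · exact act_xr_LS (r := ⟨r, hr⟩) (by rw [wk_root hr] at h; exact h) t hv
  · rwa [act_one]

theorem wG_LS {A : Set Q8} {w : SV} (h : ∀ q ∈ w, ∀ a ∈ A, a + wk q.1 ∈ A) {v : L8 K} (hv : v ∈ LS K A) :
    act (wG K w) v ∈ LS K A := by
  induction w with
  | nil => rwa [wG_nil, act_one]
  | cons p w ih =>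
    rw [wG_cons, act_mul]
    exact xk_LS (h p List.mem_cons_self) _ (ih fun q hq => h q (List.mem_cons_of_mem _ hq))

/-- words in roots of degree zero preserve the grading -/
theorem wG_Eq {lam : Q8 →+ ℝ} {w : SV} (h : ∀ q ∈ w, lam (wk q.1) = 0) {c : ℝ} {v : L8 K} (hv : v ∈ LS K (Eq' lam c)) :
    act (wG K w) v ∈ LS K (Eq' lam c) :=
  wG_LS (fun q hq a ha => by rw [mem_Eq] at ha ⊢; rw [map_add, ha, h q hq, add_zero]) hv

theorem wG_cl {y : Q8} {w : SV} (h : dgE y 0 w = true) {c : ℝ} {v : L8 K} (hv : v ∈ LS K (Eq' (cl y) c)) :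
    act (wG K w) v ∈ LS K (Eq' (cl y) c) :=
  wG_Eq (fun q hq => by simpa using mem_Eq.1 (dg_mem (allK_spec h q hq))) hv

/-- the torus element of a cocharacter -/
theorem exists_tor {c : K} (hc : c ≠ 0) (y : Q8) : ∃ t : G8 K, (∀ (A : Set Q8), ∀ v ∈ LS K A, act t v ∈ LS K A) ∧
    ∀ (d : ℤ), ∀ v ∈ LS K (Eq' (cl y) (d : ℝ)), act t v = c ^ d • v := by
  obtain ⟨t, ht, h⟩ := TwoH.exists_tz hc y
  refine ⟨t, fun A v hv => act_TT_LS ht hv, fun d v hv => ?_⟩
  funext i
  rw [act, h, Reg5.Cls.dz, mulVec_diagonal, Pi.smul_apply, smul_eq_mul]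
  by_cases hi : v i = 0
  · rw [hi, mul_zero, mul_zero]
  · have h1 := mem_Eq.1 (mem_LS.1 hv i hi)
    rw [cl_apply, Int.cast_inj] at h1
    rw [h1]

variable [CharP K 3]

theorem cast_m3 (m : ℤ) : (m : K) = ((m3 m : ℕ) : K) := by
  have h1 : ((m3 m : ℕ) : ℤ) = m % 3 := Int.natAbs_of_nonneg (Int.emod_nonneg _ (by norm_num))
  have h2 : ((3 : ℤ) : K) = 0 := by exact_mod_cast CharP.cast_eq_zero K 3
  rw [← Int.cast_natCast, h1]
  conv_lhs => rw [← Int.emod_add_mul_ediv m 3]
  rw [Int.cast_add, Int.cast_mul, h2, zero_mul, add_zero]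

theorem m3_lt (m : ℤ) : m3 m < 3 := by
  have h1 : ((m3 m : ℕ) : ℤ) = m % 3 := Int.natAbs_of_nonneg (Int.emod_nonneg _ (by norm_num))
  omega

theorem two_eq : (2 : K) = -1 := by
  have h2 : (3 : K) = 0 := by exact_mod_cast CharP.cast_eq_zero K 3
  linear_combination h2

theorem nf_spec (l : SV) : ∀ k : SV → SV, ∃ t, nf l k = k t ∧ sv K t = sv K l := by
  induction l with
  | nil => exact fun k => ⟨[], rfl, rfl⟩
  | cons p l ih =>
    intro k
    obtain ⟨t, h1, h2⟩ := ih fun t => Nat.rec (motive := fun _ => SV) (k t)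
      (fun n _ => frc p.1 fun a => Nat.rec (motive := fun _ => SV) (k ((a, Int.ofNat 1) :: t))
        (fun _ _ => k ((a, Int.negSucc 0) :: t)) n) (m3 p.2)
    have h3 := cast_m3 (K := K) p.2
    have h4 := m3_lt p.2
    have h5 : nf (p :: l) k = _ := h1
    rw [h5, sv_cons, h3, ← h2]
    generalize m3 p.2 = n at h4
    interval_cases n
    · exact ⟨t, rfl, by simp⟩
    · exact ⟨(p.1, Int.ofNat 1) :: t, frc_eq _ _, by rw [sv_cons]; simp⟩
    · refine ⟨(p.1, Int.negSucc 0) :: t, frc_eq _ _, ?_⟩
      rw [sv_cons, Nat.cast_ofNat, two_eq]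
      simp

theorem sv_nz (l : SV) : sv K (nz l) = sv K l := by
  obtain ⟨t, h1, h2⟩ := nf_spec (K := K) l fun t => t
  rw [nz, h1, h2]

/-- **the bracket** -/
theorem br_sv (x y : SV) : br (sv K x) (sv K y) = sv K (brS x y) := by rw [brS, sv_nz, sv_br0]

theorem sv_z3 {l : SV} (h : z3 l = true) : sv K l = 0 := by
  induction l with
  | nil => exact sv_nil
  | cons p l ih =>
    have e : z3 (p :: l) = Bool.rec (motive := fun _ => Bool) false (z3 l) (Nat.beq (m3 p.2) 0) := rfl
    rw [e] at h
    cases h1 : Nat.beq (m3 p.2) 0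
    · rw [h1] at h; cases h
    · rw [h1] at h
      rw [sv_cons, ih h, cast_m3, Nat.eq_of_beq_eq_true h1, Nat.cast_zero, zero_smul, add_zero]

theorem sv_eq3 {x y : SV} (h : eq3 x y = true) : sv K x = sv K y := by
  have h1 := sv_z3 (K := K) h
  rw [sv_addH, sv_addH, sv_nil, add_zero] at h1
  have h2 : -sv K x + sv K y = 0 := by simpa using h1
  exact (neg_add_eq_zero.1 h2)

theorem br_of_eq3 {x y z : SV} (h : eq3 (br0 x y) z = true) : br (sv K x) (sv K y) = sv K z := by
  rw [← sv_br0, sv_eq3 h]

theorem br_of_z3 {x y : SV} (h : z3 (br0 x y) = true) : br (sv K x) (sv K y) = 0 := by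
  rw [← sv_br0, sv_z3 h]

/-- a coefficient which is not divisible by three -/
theorem sv_ne_zero {l : SV} {k : ℕ} (hk : k < 248) (h : Nat.beq (m3 (cf l k)) 0 = false) : sv K l ≠ 0 := by
  obtain ⟨x, rfl⟩ := ky_surj hk
  intro h0
  have h1 := congrFun h0 x
  rw [cf_eq, cast_m3, Pi.zero_apply, CharP.cast_eq_zero_iff K 3] at h1
  exact Nat.ne_of_beq_eq_false h (Nat.eq_zero_of_dvd_of_lt h1 (m3_lt _))

/-- **root elements** -/
theorem act_xk (r : ℕ) (t : ℤ) (l : SV) : act (xk K r (t : K)) (sv K l) = sv K (xS r t l) := by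
  unfold xk xS
  cases h : Nat.blt r 240
  · rw [dif_neg (fun h1 => by rw [nroots8, ← Nat.blt_eq, h] at h1; cases h1), act_one]
  · have hr : r < chevE8.nroots := by rw [nroots8]; exact Nat.blt_eq.mp h
    have h1 : ky (Sum.inr (Par.op ⟨r, hr⟩)) = Nat.sub 239 r := by
      rw [ky_inr, Par.op_eq_rv, H597.E8Form.rv_val]; rfl
    rw [dif_pos hr, Par.act_xr, Par.kf_ee, cf_eq, h1, ← eb_root hr]
    show _ = sv K (nz _)
    rw [sv_nz, sv_insM, sv_addH, sv_adS, sv_nil, add_zero]
    have h2 : ((Int.neg (Int.mul (Int.mul t t) (cf l (Nat.sub 239 r))) : ℤ) : K) =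
        -((t : K) ^ 2 * ((cf l (Nat.sub 239 r) : ℤ) : K)) := by
      show ((-(t * t * cf l (Nat.sub 239 r)) : ℤ) : K) = _
      push_cast; ring
    rw [h2, neg_smul, show ((Int.ofNat 1 : ℤ) : K) = 1 by simp, one_smul]
    abel

/-- **words** -/
theorem act_wG (w l : SV) : act (wG K w) (sv K l) = sv K (wS w l) := by
  induction w with
  | nil => rw [wG_nil, act_one]; rfl
  | cons p w ih => rw [wG_cons, act_mul, ih, act_xk]; rfl

theorem act_of_eq3 {w x y : SV} (h : eq3 (wS w x) y = true) : act (wG K w) (sv K x) = sv K y := by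
  rw [act_wG, sv_eq3 h]

end Sem

end Cfsg.Agent.E8A.C63.Sv
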